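import Mathlib
import Cfsg.Agent.H26.BitCode
import Cfsg.Agent.H5.J4Out.Data

/-!
Vectors of length eleven and matrices acting on them, packed into numbers, with the finite checks on
the group of order 1024 and on the two generators.
-/

set_option autoImplicit false
set_option maxRecDepth 100000

namespace H5.J4Out

/-- a row of a packed matrix -/
def rowM (A i : ℕ) : ℕ := (A >>> (11 * i)) % 2048

/-- the sum of the first `k` selected rows -/
noncomputable def actK (A v : ℕ) : ℕ → ℕ :=
  fun k => Nat.rec (motive := fun _ => ℕ) 0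
    (fun i acc => Nat.xor acc (rowM A i * ((v >>> i) % 2))) k

/-- a vector times a matrix -/
noncomputable def actV (v A : ℕ) : ℕ := actK A v 11

/-- apply a word in the two generators, letter by letter -/
noncomputable def actW : List ℕ → ℕ → ℕ
  | [], v => v
  | 0 :: w, v => actW w (actV v Data.cXm)
  | 1 :: w, v => actW w (actV v Data.cYm)
  | _ :: w, v => actW w (actV (actV v Data.cYm) Data.cYm)

/-- equality of packed matrices row by row -/
noncomputable def sameM (A B : ℕ) : Bool :=
  (List.range 11).all fun i => Nat.beq (rowM A i) (rowM B i)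

/-- the identity matrix -/
def oneM : ℕ := 1 + 2 ^ 12 + 2 ^ 24 + 2 ^ 36 + 2 ^ 48 + 2 ^ 60 + 2 ^ 72 + 2 ^ 84 + 2 ^ 96 +
  2 ^ 108 + 2 ^ 120

/-- the lowest bit of each row -/
def onesM : ℕ := 1 + 2 ^ 11 + 2 ^ 22 + 2 ^ 33 + 2 ^ 44 + 2 ^ 55 + 2 ^ 66 + 2 ^ 77 + 2 ^ 88 +
  2 ^ 99 + 2 ^ 110

/-- the product of two packed matrices -/
noncomputable def mulM (A B : ℕ) : ℕ := H26.BitCode.mulW 11 onesM A B

/-- is the product of two matrices the third -/
noncomputable def mulIs (A B C : ℕ) : Bool := Nat.beq (mulM A B) C

theorem onesM_eq : onesM = H26.BitCode.onesOf 11 := by decide +kernel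

theorem oneM_row : ∀ i, i < 11 → rowM oneM i = 2 ^ i := by decide +kernel

theorem actK_succ (A v k : ℕ) :
    actK A v (k + 1) = actK A v k ^^^ (if Nat.testBit v k then rowM A k else 0) := by
  show Nat.xor _ (rowM A k * ((v >>> k) % 2)) = Nat.xor _ _
  congr 1
  rw [Nat.testBit_eq_decide_div_mod_eq, Nat.shiftRight_eq_div_pow]
  rcases Nat.mod_two_eq_zero_or_one (v / 2 ^ k) with h | h <;> simp [h]

theorem actK_zero (A v : ℕ) : actK A v 0 = 0 := rfl

theorem rowM_lt (A i : ℕ) : rowM A i < 2048 := Nat.mod_lt _ (by norm_num)

theorem actK_lt (A v : ℕ) : ∀ k, actK A v k < 2048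
  | 0 => by rw [actK_zero]; norm_num
  | k + 1 => by
    rw [actK_succ]
    refine Nat.xor_lt_two_pow (n := 11) (actK_lt A v k) ?_
    split
    · exact rowM_lt A k
    · norm_num

theorem actV_lt (v A : ℕ) : actV v A < 2048 := actK_lt A v 11

theorem rowM_bit (A i j : ℕ) (hj : j < 11) :
    (rowM A i).testBit j = A.testBit (11 * i + j) := by
  rw [rowM, show (2048 : ℕ) = 2 ^ 11 by norm_num, Nat.testBit_mod_two_pow, Nat.testBit_shiftRight]
  simp [hj]

theorem rowM_mulM (A B : ℕ) {i : ℕ} (hi : i < 11) : rowM (mulM A B) i = actV (rowM A i) B := by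
  refine Nat.eq_of_testBit_eq fun k => ?_
  by_cases hk : k < 11
  · rw [rowM_bit _ _ _ hk, mulM, H26.BitCode.mulW, actV, actK]
    have key : ∀ n, n ≤ 11 → (Nat.rec (motive := fun _ => ℕ) 0
        (fun j acc => Nat.xor acc (((A >>> j) &&& onesM) * H26.BitCode.rowC 11 B j)) n : ℕ).testBit
          (11 * i + k) = (actK B (rowM A i) n).testBit k := by
      intro n
      induction n with
      | zero => intro _; simp [actK_zero]
      | succ n ih =>
        intro hn
        rw [actK_succ]
        show Nat.testBit (_ ^^^ _) _ = Nat.testBit (_ ^^^ _) _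
        rw [Nat.testBit_xor, Nat.testBit_xor, ih (by omega), onesM_eq,
          H26.BitCode.summand_bit (by norm_num) A B n (by omega) i k hi hk]
        congr 1
        rw [H26.BitCode.cbit, H26.BitCode.cbit, ← rowM_bit A i n (by omega), ← rowM_bit B n k hk]
        cases (rowM A i).testBit n <;> simp
    exact key 11 le_rfl
  · have h : ∀ z, z < 2048 → z.testBit k = false := fun z hz => Nat.testBit_lt_two_pow
      (lt_of_lt_of_le hz (Nat.pow_le_pow_right (n := 2) (by norm_num) (show 11 ≤ k by omega)))
    rw [h _ (rowM_lt _ _), h _ (actV_lt _ _)]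

theorem mulIs_row {A B C : ℕ} (h : mulIs A B C = true) :
    ∀ i, i < 11 → actV (rowM A i) B = rowM C i := fun i hi => by
  rw [← rowM_mulM A B hi, Nat.eq_of_beq_eq_true h]

/-- entry of a table stored in blocks of 32 -/
def tab {α : Type} (l : List (List α)) (d : α) (i : ℕ) : α := (l.getD (i / 32) []).getD (i % 32) d

/-- the listed matrices -/
def el (i : ℕ) : ℕ := tab Data.elL 0 i

/-- the generators of the group of order 1024, as listed -/
def genM (k : ℕ) : ℕ := Data.genM.getD k 0

/-- right multiplication by a generator -/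
def mulG (i k : ℕ) : ℕ :=
  tab ([Data.mulL0, Data.mulL1, Data.mulL2, Data.mulL3, Data.mulL4].getD k []) 0 i

/-- conjugation by a generator -/
def conjG (i k : ℕ) : ℕ :=
  tab ([Data.conjL0, Data.conjL1, Data.conjL2, Data.conjL3, Data.conjL4].getD k []) 0 i

/-- an element times its conjugate by a generator -/
def commG (i k : ℕ) : ℕ :=
  tab ([Data.commL0, Data.commL1, Data.commL2, Data.commL3, Data.commL4].getD k []) 0 i

/-- the square -/
def sqI (i : ℕ) : ℕ := tab Data.sqL 0 i

/-- the depth -/
def levI (i : ℕ) : ℕ := tab Data.levL 0 i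

/-- the predecessor -/
def predI (i : ℕ) : ℕ × ℕ := tab Data.predL (0, 0) i

theorem el_zero : Nat.beq (el 0) oneM = true := by decide +kernel

theorem el_small : (List.range 1024).all (fun i => Nat.blt (el i) (2 ^ 121)) = true := by
  decide +kernel

theorem pred_check : (List.range 1024).all (fun i => Nat.beq i 0 ||
    (Nat.blt (predI i).1 i && Nat.blt (predI i).2 5 &&
      Nat.beq (mulG (predI i).1 (predI i).2) i)) = true := by decide +kernel

theorem mul_check : (List.range 1024).all (fun i => (List.range 5).all fun k =>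
    Nat.blt (mulG i k) 1024 && mulIs (el i) (genM k) (el (mulG i k))) = true := by decide +kernel

theorem inv_check : (List.range 5).all (fun k => Nat.blt (Data.genI.getD k 0) 1024 &&
    mulIs (el (Data.genI.getD k 0)) (genM k) oneM) = true := by decide +kernel

theorem gen_check : (List.range 5).all (fun k => (List.range 11).all fun i =>
    Nat.beq (actW (Data.genW.getD k []) (2 ^ i)) (rowM (genM k) i)) = true := by decide +kernel

theorem conj_check : (List.range 1024).all (fun i => (List.range 5).all fun k =>
    Nat.blt (conjG i k) 1024 &&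
      mulIs (mulM (el (Data.genI.getD k 0)) (el i)) (genM k) (el (conjG i k))) = true := by
  decide +kernel

theorem comm_check : (List.range 1024).all (fun i => (List.range 5).all fun k =>
    Nat.blt (commG i k) 1024 && mulIs (el i) (el (conjG i k)) (el (commG i k))) = true := by
  decide +kernel

theorem sq_check : (List.range 1024).all (fun i => Nat.blt (sqI i) 1024 &&
    mulIs (el i) (el i) (el (sqI i))) = true := by decide +kernel

theorem lev_check : (List.range 1024).all (fun i => Nat.beq i 0 || !Nat.beq (sqI i) 0 ||
    (List.range 5).all fun k => Nat.blt (levI i) (levI (commG i k))) = true := by decide +kernel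

/-- do two matrices commute -/
noncomputable def commM (A B : ℕ) : Bool :=
  Nat.beq (mulM A B) (mulM B A)

/-- can the node be extended by `y` -/
noncomputable def extOK (K : List ℕ) (y : ℕ) : Bool :=
  !Nat.beq (sqI y) 0 || K.contains y || (List.range 5).any (fun k => !K.contains (commG y k)) ||
    K.any (fun a => !commM (el a) (el y)) ||
    Data.nodeL.any fun K' => Nat.blt K.length K'.length &&
      K'.all fun b => K.contains b || K.any fun a => mulIs (el a) (el y) (el b)

theorem node_shape : Data.nodeL.all (fun K => decide K.Nodup && K.all (fun b => Nat.blt b 1024) &&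
    K.contains 0) = true ∧ Data.nodeL.contains [0] = true := by decide +kernel

/-- the number of vectors fixed by the listed matrices -/
noncomputable def numFix (w : List ℕ) : ℕ :=
  ((List.range 2048).filter fun v => w.all fun b => Nat.beq (actV v (el b)) v).length

theorem wit_length : Data.witL.length = Data.nodeL.length := by decide +kernel

/-! ### The two generators -/

/-- words fixing the first basis vector and only it -/
def stabA : List ℕ :=
  [0, 1, 0, 1, 0, 1, 0, 1, 0, 1, 0, 1, 0, 1, 0, 2, 0, 1, 0, 1, 0, 2, 0, 2, 0, 2, 0]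

theorem stab_fix : actW stabA 1 = 1 ∧ actW [1] 1 = 1 := by decide +kernel

theorem stab_only : (List.range 2048).all (fun v => Nat.beq v 0 || Nat.beq v 1 ||
    !Nat.beq (actW stabA v) v || !Nat.beq (actV v Data.cYm) v) = true := by decide +kernel

/-- the vectors fixed by y -/
def fixY : List ℕ := [0, 1, 22, 23, 106, 107, 124, 125, 132, 133, 146, 147, 238, 239, 248, 249,
  296, 297, 318, 319, 322, 323, 340, 341, 428, 429, 442, 443, 454, 455, 464, 465]

theorem fixY_ok : fixY.all (fun u => Nat.beq (actV u Data.cYm) u && Nat.blt u 2048) = true := by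
  decide +kernel

/-- the vectors `u + u·x` for `u` fixed by y -/
noncomputable def bList : List ℕ := fixY.map fun u => Nat.xor (actV u Data.cXm) u

theorem split_x : (List.range 2048).all (fun a => !Nat.beq (actV a Data.cXm) a ||
    bList.contains a || bList.contains (Nat.xor a 1935)) = true := by decide +kernel

/-- the word fixed by t -/
def fWord : List ℕ := [1, 0, 1, 0, 2, 0, 2, 0, 1, 0, 1, 0, 1]

theorem fix_xf : (List.range 2048).all (fun v => Nat.beq v 0 || !Nat.beq (actV v Data.cXm) v ||
    !Nat.beq (actW fWord v) v) = true := by decide +kernel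

theorem gen_moves : actV 1 Data.cXm ≠ 1 := by decide +kernel

end H5.J4Out
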