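import Cfsg.Agent.H96.J4Simple.Main
import Cfsg.Agent.H26.J4Schur.Words
import Cfsg.Agent.H5.J4Out.Bits

/-!
The subgroup of order 2^11 of the presented fourth Janko group as bit vectors, with the action of
the subgroup generated by x, y and s.
-/

set_option autoImplicit false
set_option maxRecDepth 100000

namespace H5.J4Out

open H54.J4 H54.J4.Lower H54.J4.Rep H96.J4Simple H54.J4.LowerData

/-- x -/
def gX : G4 := jX
/-- y -/
def gY : G4 := jY
/-- t -/
def gT : G4 := PresentedGroup.mk jRels Cfsg.Spor.J4.t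
/-- s -/
def gS0 : G4 := PresentedGroup.mk jRels sWord

theorem gT_eq : gT = H96.J4Irr.gt := rfl

theorem rho_gX : rho gX = uX := rho_mk_x
theorem rho_gY : rho gY = uY := rho_mk_y
theorem rho_gT : rho gT = uT := PresentedGroup.toGroup.of rels_hold
theorem rho_gS : rho gS0 = uS := rfl

theorem gX_mem : gX ∈ jN := ⟨_, Subgroup.subset_closure (by simp), rfl⟩
theorem gY_mem : gY ∈ jN := ⟨_, Subgroup.subset_closure (by simp), rfl⟩
theorem gS_mem : gS0 ∈ jN := ⟨_, Subgroup.subset_closure (by simp), rfl⟩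

theorem jN_le {H : Subgroup G4} (hx : gX ∈ H) (hy : gY ∈ H) (hs : gS0 ∈ H) : jN ≤ H := by
  rw [jN, MonoidHom.map_closure, Subgroup.closure_le]
  simp only [Set.image_insert_eq, Set.image_singleton]
  rintro g (rfl | rfl | rfl) <;> assumption

/-- the basis elements -/
noncomputable def eg (i : ℕ) : G4 :=
  open Classical in if h : ∃ g ∈ jN, rho g = eU i then h.choose else 1

theorem eg_spec {i : ℕ} (hi : i < 11) : eg i ∈ jN ∧ rho (eg i) = eU i := by
  have h : eU i ∈ jN.map rho := by rw [map_jN]; exact eU_mem hi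
  obtain ⟨g, hg, e⟩ := Subgroup.mem_map.1 h
  have h' : ∃ g ∈ jN, rho g = eU i := ⟨g, hg, e⟩
  rw [eg, dif_pos h']
  exact h'.choose_spec

theorem rho_eg {i : ℕ} (hi : i < 11) : rho (eg i) = eU i := (eg_spec hi).2

/-- the product of the first `k` selected basis elements -/
noncomputable def psiK : ℕ → ℕ → G4
  | 0, _ => 1
  | k + 1, v => psiK k v * if Nat.testBit v k then eg k else 1

/-- the element of a vector -/
noncomputable def psi (v : ℕ) : G4 := psiK 11 v

/-- the code of a vector -/
noncomputable def codeK (v : ℕ) : ℕ → ℕ :=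
  fun k => Nat.rec (motive := fun _ => ℕ) cI
    (fun i acc => mulC acc (if Nat.testBit v i then basis.getD i cI else cI)) k

theorem is_psiK (v : ℕ) : ∀ k ≤ 11, Is (rho (psiK k v)) (codeK v k)
  | 0, _ => by rw [psiK, map_one]; exact H54.J4.Lower.is_one
  | k + 1, h => by
    rw [psiK, map_mul, show codeK v (k + 1) =
      mulC (codeK v k) (if Nat.testBit v k then basis.getD k cI else cI) from rfl]
    refine (is_psiK v k (by omega)).mul ?_
    split
    · rw [rho_eg (by omega)]; exact is_eU (by omega)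
    · rw [map_one]; exact H54.J4.Lower.is_one

theorem is_psi (v : ℕ) : Is (rho (psi v)) (codeK v 11) := is_psiK v 11 le_rfl

theorem row_check : (∀ i < 11, mulC (mulC cX (basis.getD i cI)) cX = codeK (rowM Data.cXm i) 11) ∧
    ∀ i < 11, mulC (mulC (mulC cY cY) (basis.getD i cI)) cY = codeK (rowM Data.cYm i) 11 := by
  decide +kernel

theorem psiK_zero : ∀ k, psiK k 0 = 1
  | 0 => rfl
  | k + 1 => by rw [psiK, psiK_zero k]; simp

theorem psi_zero : psi 0 = 1 := psiK_zero 11

theorem psiK_pow (i : ℕ) : ∀ k, psiK k (2 ^ i) = if i < k then eg i else 1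
  | 0 => by simp [psiK]
  | k + 1 => by
    rw [psiK, psiK_pow i k, Nat.testBit_two_pow]
    rcases lt_trichotomy i k with h | h | h
    · simp [h, h.ne, show i < k + 1 by omega]
    · subst h; simp
    · simp [show ¬i < k by omega, h.ne', show ¬i < k + 1 by omega]

theorem psi_pow {i : ℕ} (hi : i < 11) : psi (2 ^ i) = eg i := by
  rw [psi, psiK_pow, if_pos hi]

variable (hi : Function.Injective rho)

include hi

theorem eg_zero : eg 0 = gS0 := hi (by rw [rho_eg (by norm_num), eU_zero, rho_gS])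

theorem eg_comm {i j : ℕ} (h1 : i < 11) (h2 : j < 11) : eg i * eg j = eg j * eg i :=
  hi (by rw [map_mul, map_mul, rho_eg h1, rho_eg h2, eU_comm h1 h2])

theorem eg_sq {i : ℕ} (h : i < 11) : eg i * eg i = 1 :=
  hi (by rw [map_mul, map_one, rho_eg h, eU_sq h])

theorem psiK_comm (v : ℕ) {j : ℕ} (hj : j < 11) : ∀ k ≤ 11, Commute (psiK k v) (eg j)
  | 0, _ => Commute.one_left _
  | k + 1, h => by
    rw [psiK]
    refine (psiK_comm v hj k (by omega)).mul_left ?_
    split
    · exact eg_comm hi (by omega) hj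
    · exact Commute.one_left _

theorem psiK_xor (v w : ℕ) : ∀ k ≤ 11, psiK k (v ^^^ w) = psiK k v * psiK k w
  | 0, _ => by simp [psiK]
  | k + 1, h => by
    simp only [psiK]
    have hc := (psiK_comm hi w (show k < 11 by omega) k (by omega)).eq
    rw [psiK_xor v w k (by omega), Nat.testBit_xor]
    cases hv : Nat.testBit v k <;> cases hw : Nat.testBit w k <;> simp only [Bool.xor_false,
      Bool.xor_true, Bool.not_false, Bool.not_true, if_true, mul_one, Bool.false_eq_true, if_false,
      mul_assoc]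
    · rw [hc]
    · rw [← mul_assoc (eg k), ← hc, mul_assoc, eg_sq hi (show k < 11 by omega), mul_one]

theorem psi_xor (v w : ℕ) : psi (v ^^^ w) = psi v * psi w := psiK_xor hi v w 11 le_rfl

theorem psi_comm (v w : ℕ) : psi v * psi w = psi w * psi v := by
  rw [← psi_xor hi, ← psi_xor hi, Nat.xor_comm]

theorem psi_sq (v : ℕ) : psi v * psi v = 1 := by rw [← psi_xor hi, Nat.xor_self, psi_zero]

theorem psi_inv (v : ℕ) : (psi v)⁻¹ = psi v := inv_eq_of_mul_eq_one_right (psi_sq hi v)

omit hi in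
theorem psiK_mem (v : ℕ) : ∀ k ≤ 11, rho (psiK k v) ∈ vSub eU k
  | 0, _ => by rw [psiK, map_one]; exact one_mem _
  | k + 1, h => by
    rw [psiK, map_mul]
    refine mul_mem (Subgroup.mem_sup_left (psiK_mem v k (by omega))) ?_
    split
    · rw [rho_eg (by omega)]; exact Subgroup.mem_sup_right (Subgroup.mem_zpowers _)
    · rw [map_one]; exact one_mem _

theorem psi_eq_one {v : ℕ} (hv : v < 2048) (h : psi v = 1) : v = 0 := by
  suffices ∀ k ≤ 11, psiK k v = 1 → ∀ i < k, Nat.testBit v i = false by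
    refine Nat.eq_of_testBit_eq fun i => ?_
    rw [Nat.zero_testBit]
    by_cases hi' : i < 11
    · exact this 11 le_rfl h i hi'
    · exact Nat.testBit_lt_two_pow (lt_of_lt_of_le hv
        (Nat.pow_le_pow_right (n := 2) (by norm_num) (show 11 ≤ i by omega)))
  intro k
  induction k with
  | zero => intro _ _ i h; omega
  | succ k ih =>
    intro hk h i hik
    rw [psiK] at h
    cases hb : Nat.testBit v k
    · rw [hb] at h
      simp only [Bool.false_eq_true, if_false, mul_one] at h
      rcases Nat.lt_succ_iff_lt_or_eq.1 hik with h' | rfl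
      · exact ih (by omega) h i h'
      · exact hb
    · exfalso
      rw [hb, if_pos rfl] at h
      have e : eg k = (psiK k v)⁻¹ := eq_inv_of_mul_eq_one_right h
      have h1 : eU k ∈ vSub eU k := by
        rw [← rho_eg (show k < 11 by omega), e, map_inv]
        exact inv_mem (psiK_mem v k (by omega))
      have h2 : vSub eU (k + 1) = vSub eU k :=
        le_antisymm (sup_le le_rfl (Subgroup.zpowers_le.2 h1)) le_sup_left
      have h3 := card_vSub (k + 1) hk
      rw [h2, card_vSub k (by omega), pow_succ] at h3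
      have := Nat.two_pow_pos k
      omega

theorem psi_inj {v w : ℕ} (hv : v < 2048) (hw : w < 2048) (h : psi v = psi w) : v = w := by
  have : v ^^^ w = 0 := psi_eq_one hi (Nat.xor_lt_two_pow (n := 11) hv hw)
    (by rw [psi_xor hi, h, psi_sq hi])
  simpa using this

/-- the subgroup of order 2^11 -/
noncomputable def eSub : Subgroup G4 where
  carrier := {g | ∃ v, v < 2048 ∧ g = psi v}
  one_mem' := ⟨0, by norm_num, psi_zero.symm⟩
  mul_mem' := by
    rintro _ _ ⟨v, hv, rfl⟩ ⟨w, hw, rfl⟩
    exact ⟨v ^^^ w, Nat.xor_lt_two_pow (n := 11) hv hw, (psi_xor hi v w).symm⟩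
  inv_mem' := by
    rintro _ ⟨v, hv, rfl⟩
    exact ⟨v, hv, psi_inv hi v⟩

theorem mem_eSub {g : G4} : g ∈ eSub hi ↔ ∃ v, v < 2048 ∧ g = psi v := Iff.rfl

theorem psi_mem_eSub {v : ℕ} (hv : v < 2048) : psi v ∈ eSub hi := ⟨v, hv, rfl⟩

theorem eg_mem_eSub {i : ℕ} (h : i < 11) : eg i ∈ eSub hi :=
  ⟨2 ^ i, Nat.pow_lt_pow_right (by norm_num) h, (psi_pow h).symm⟩

theorem eSub_le : eSub hi ≤ jN := by
  rintro _ ⟨v, -, rfl⟩
  show psiK 11 v ∈ jN
  have : ∀ k ≤ 11, psiK k v ∈ jN := by
    intro k
    induction k with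
    | zero => intro _; exact one_mem _
    | succ k ih =>
      intro h
      rw [psiK]
      refine mul_mem (ih (by omega)) ?_
      split
      · exact (eg_spec (by omega)).1
      · exact one_mem _
  exact this 11 le_rfl

theorem card_eSub : Nat.card (eSub hi) = 2048 := by
  let f : Fin 2048 → eSub hi := fun v => ⟨psi v, psi_mem_eSub hi v.isLt⟩
  rw [← Nat.card_eq_of_bijective f ⟨fun v w h => Fin.ext (psi_inj hi v.isLt w.isLt
    (congrArg Subtype.val h)), ?_⟩, Nat.card_fin]
  rintro ⟨_, v, hv, rfl⟩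
  exact ⟨⟨v, hv⟩, rfl⟩

/-- the action of an element by a packed matrix -/
def Acts (g : G4) (A : ℕ) : Prop := ∀ i, i < 11 → g⁻¹ * eg i * g = psi (rowM A i)

theorem Acts.apply {g : G4} {A : ℕ} (h : Acts g A) (v : ℕ) :
    g⁻¹ * psi v * g = psi (actV v A) := by
  have : ∀ k ≤ 11, g⁻¹ * psiK k v * g = psi (actK A v k) := by
    intro k
    induction k with
    | zero => intro _; simp [psiK, actK_zero, psi_zero]
    | succ k ih =>
      intro hk
      rw [psiK, actK_succ, psi_xor hi, ← ih (by omega)]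
      split
      · rw [← h k (by omega)]; group
      · rw [psi_zero]; group
  exact this 11 le_rfl

theorem Acts.mul {g h : G4} {A B C : ℕ} (hg : Acts g A) (hh : Acts h B)
    (hC : mulIs A B C = true) : Acts (g * h) C := by
  intro i hi'
  rw [← mulIs_row hC i hi', ← hh.apply hi, ← hg i hi']
  group

theorem Acts.unique {g : G4} {A B : ℕ} (hA : Acts g A) (hB : Acts g B) : sameM A B = true := by
  simp only [sameM, List.all_eq_true, List.mem_range]
  intro i hi'
  rw [psi_inj hi (rowM_lt A i) (rowM_lt B i) ((hA i hi').symm.trans (hB i hi'))]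
  exact Nat.beq_refl _

omit hi in
theorem acts_one : Acts 1 oneM := fun i hi' => by
  rw [oneM_row i hi', psi_pow hi']; group

theorem acts_X : Acts gX Data.cXm := fun i h => hi (by
  rw [map_mul, map_mul, map_inv, rho_gX, rho_eg h, uX_inv]
  exact H54.J4.Lower.Is.unique ((isX.mul (is_eU h)).mul isX) (row_check.1 i h ▸ is_psi _))

theorem acts_Y : Acts gY Data.cYm := fun i h => hi (by
  rw [map_mul, map_mul, map_inv, rho_gY, rho_eg h, uY_inv]
  exact H54.J4.Lower.Is.unique (((isY.mul isY).mul (is_eU h)).mul isY) (row_check.2 i h ▸ is_psi _))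

/-- the value of a word in x and y -/
def wxy (w : List ℕ) : G4 := H26.J4Schur.wv gX gY 1 w

theorem word_apply : ∀ (w : List ℕ), (∀ g ∈ w, g < 3) → ∀ v,
    (wxy w)⁻¹ * psi v * wxy w = psi (actW w v)
  | [], _, v => by simp [wxy, H26.J4Schur.wv, actW]
  | g :: w, h, v => by
    have hg := h g List.mem_cons_self
    have ih := word_apply w fun k hk => h k (List.mem_cons_of_mem _ hk)
    have e : wxy (g :: w) = H26.J4Schur.gv gX gY 1 g * wxy w := rfl
    rcases g with _ | _ | _ | g
    · rw [e, actW, ← ih, ← (acts_X hi).apply hi]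
      simp only [H26.J4Schur.gv]; group
    · rw [e, actW, ← ih, ← (acts_Y hi).apply hi]
      simp only [H26.J4Schur.gv]; group
    · rw [e, actW, ← ih, ← (acts_Y hi).apply hi, ← (acts_Y hi).apply hi]
      · simp only [H26.J4Schur.gv]; group
      all_goals omega
    · omega

omit hi in
theorem wxy_toJ (w : List ℕ) :
    toJ (H26.J4Schur.wv H26.J4Schur.pA H26.J4Schur.pB 1 w) = wxy w := by
  rw [H26.J4Schur.map_wv, map_one, H26.J4Schur.pA, H26.J4Schur.pB, map_inv, toJ_gA, toJ_gB,
    inv_inv]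
  rfl

theorem normal_eSub : jN ≤ Subgroup.normalizer (eSub hi : Set G4) := by
  have hfin : (eSub hi : Set G4).Finite :=
    Set.finite_coe_iff.mp (Nat.finite_of_card_ne_zero (by
      show Nat.card (eSub hi) ≠ 0
      rw [card_eSub hi]; norm_num))
  have key : ∀ g A, Acts g A → g⁻¹ ∈ Subgroup.normalizer (eSub hi : Set G4) := fun g A h => by
    refine mem_normalizer_of_le hfin ?_
    rintro _ ⟨v, -, rfl⟩
    exact ⟨actV v A, actV_lt v A, by simp [← h.apply hi]⟩
  refine jN_le (inv_mem_iff.1 (key _ _ (acts_X hi))) (inv_mem_iff.1 (key _ _ (acts_Y hi)))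
    (Subgroup.le_normalizer ?_)
  rw [← eg_zero hi]
  exact eg_mem_eSub hi (by norm_num)

theorem toJ_range_le_normalizer : toJ.range ≤ Subgroup.normalizer (eSub hi : Set G4) :=
  H96.J4Simple.toJ_range_le.trans (normal_eSub hi)

theorem jN_decomp {n : G4} (hn : n ∈ jN) : ∃ v m, v < 2048 ∧ n = psi v * toJ m := by
  have hle : jN ≤ eSub hi ⊔ toJ.range := by
    refine jN_le ?_ ?_ (Subgroup.mem_sup_left (eg_zero hi ▸ eg_mem_eSub hi (by norm_num)))
    · exact Subgroup.mem_sup_right ⟨gA, toJ_gA⟩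
    · exact Subgroup.mem_sup_right ⟨gB⁻¹, by rw [map_inv, toJ_gB, inv_inv]; rfl⟩
  have h := hle hn
  rw [← SetLike.mem_coe, Subgroup.coe_mul_of_right_le_normalizer_left _ _
    (toJ_range_le_normalizer hi)] at h
  obtain ⟨_, ⟨v, hv, rfl⟩, _, ⟨m, rfl⟩, rfl⟩ := h
  exact ⟨v, m, hv, rfl⟩

theorem toJ_central {m : Pres} (h : ∀ v, v < 2048 → Commute (toJ m) (psi v)) : m = 1 := by
  haveI : IsSimpleGroup Cfsg.M24 := H90.M24_simple
  haveI : IsSimpleGroup Pres := presEquiv.isSimpleGroup
  let K : Subgroup Pres := (Subgroup.centralizer (eSub hi : Set G4)).comap toJ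
  have hK : K.Normal := ⟨fun a ha b => by
    show toJ (b * a * b⁻¹) ∈ Subgroup.centralizer _
    rw [Subgroup.mem_centralizer_iff]
    intro e he
    have he' : (toJ b)⁻¹ * e * toJ b ∈ eSub hi := by
      have h' := (Subgroup.mem_normalizer_iff.1
        (inv_mem (toJ_range_le_normalizer hi ⟨b, rfl⟩)) e).1 he
      simpa using h'
    have hc := Subgroup.mem_centralizer_iff.1 (show toJ a ∈ Subgroup.centralizer _ from ha) _ he'
    simp only [map_mul, map_inv]
    calc e * (toJ b * toJ a * (toJ b)⁻¹)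
        = toJ b * (((toJ b)⁻¹ * e * toJ b) * toJ a) * (toJ b)⁻¹ := by group
      _ = toJ b * toJ a * (toJ b)⁻¹ * e := by rw [hc]; group⟩
  have hm : m ∈ K := by
    show toJ m ∈ Subgroup.centralizer _
    rw [Subgroup.mem_centralizer_iff]
    rintro _ ⟨v, hv, rfl⟩
    exact (h v hv).eq.symm
  rcases hK.eq_bot_or_eq_top with hb | ht
  · rwa [hb, Subgroup.mem_bot] at hm
  · exfalso
    have hx : toJ gA ∈ Subgroup.centralizer (eSub hi : Set G4) := by
      show gA ∈ K
      rw [ht]; exact Subgroup.mem_top _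
    rw [toJ_gA, Subgroup.mem_centralizer_iff] at hx
    apply gen_moves
    refine psi_inj hi (actV_lt _ _) (by norm_num) ?_
    rw [← (acts_X hi).apply hi, mul_assoc]
    rw [show psi 1 * gX = gX * psi 1 from hx _ (psi_mem_eSub hi (by norm_num))]
    group

theorem toJ_mem_eSub {m : Pres} (h : toJ m ∈ eSub hi) : m = 1 := by
  obtain ⟨w, -, e⟩ := h
  exact toJ_central hi fun v _ => e ▸ psi_comm hi w v

theorem decomp_unique {v v' : ℕ} {m m' : Pres} (hv : v < 2048) (hv' : v' < 2048)
    (h : psi v * toJ m = psi v' * toJ m') : v = v' ∧ m = m' := by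
  have hm : toJ (m' * m⁻¹) ∈ eSub hi := by
    have e : toJ (m' * m⁻¹) = psi v' * psi v := by
      rw [map_mul, map_inv, mul_inv_eq_iff_eq_mul, mul_assoc, h, ← mul_assoc, psi_sq hi, one_mul]
    rw [e]
    exact mul_mem (psi_mem_eSub hi hv') (psi_mem_eSub hi hv)
  have := toJ_mem_eSub hi hm
  rw [mul_inv_eq_one] at this
  subst this
  exact ⟨psi_inj hi hv hv' (mul_right_cancel h), rfl⟩

theorem acts_central {g : G4} (hg : g ∈ jN) (h : Acts g oneM) : g ∈ eSub hi := by
  obtain ⟨v, m, hv, rfl⟩ := jN_decomp hi hg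
  have : m = 1 := toJ_central hi fun w hw => by
    have h1 := h.apply hi w
    have h2 := acts_one.apply hi w
    rw [← h2, inv_one, one_mul, mul_one, mul_inv_rev, psi_inv hi] at h1
    show toJ m * psi w = psi w * toJ m
    calc toJ m * psi w = toJ m * ((toJ m)⁻¹ * psi v * psi w * (psi v * toJ m)) := by rw [h1]
      _ = psi v * psi w * psi v * toJ m := by group
      _ = psi w * toJ m := by
        rw [psi_comm hi v w, mul_assoc (psi w), psi_sq hi, mul_one]
  subst this
  simpa using psi_mem_eSub hi hv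

end H5.J4Out
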