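import Cfsg.Agent.H5.J4Out.Bits

/-! The extension check for the normal elementary abelian subgroups. -/

set_option autoImplicit false
set_option maxRecDepth 100000

namespace H5.J4Out

theorem ext_check : Data.nodeL.all (fun K => (List.range 1024).all (extOK K)) = true := by
  decide +kernel

end H5.J4Out
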