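import Cfsg.Agent.H5.J4Out.Bits

/-! The listed matrices are different. -/

set_option autoImplicit false
set_option maxRecDepth 100000

namespace H5.J4Out

/-- the order of the matrices by size -/
def sortI (k : ℕ) : ℕ := tab Data.sortL 0 k

/-- the place in that order -/
def posI (i : ℕ) : ℕ := tab Data.posL 0 i

theorem sort_check : (List.range 1023).all (fun k => Nat.blt (el (sortI k)) (el (sortI (k + 1)))) =
    true := by decide +kernel

theorem pos_check : (List.range 1024).all (fun i => Nat.blt (posI i) 1024 &&
    Nat.beq (sortI (posI i)) i) = true := by decide +kernel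

theorem el_injective {i j : ℕ} (hi : i < 1024) (hj : j < 1024) (h : el i = el j) : i = j := by
  have hp := fun n (hn : n < 1024) => List.all_eq_true.1 pos_check n (List.mem_range.2 hn)
  simp only [Bool.and_eq_true, Nat.beq_eq, Nat.blt_eq] at hp
  have hmono : ∀ d a, a + d < 1023 → el (sortI a) < el (sortI (a + d + 1)) := by
    intro d
    induction d with
    | zero =>
      intro a ha
      have := List.all_eq_true.1 sort_check a (List.mem_range.2 ha)
      simpa [Nat.blt_eq] using this
    | succ d ih =>
      intro a ha
      have := List.all_eq_true.1 sort_check (a + d + 1) (List.mem_range.2 (by omega))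
      simp only [Nat.blt_eq] at this
      exact (ih a (by omega)).trans this
  obtain ⟨a1, a2⟩ := hp i hi
  obtain ⟨b1, b2⟩ := hp j hj
  rcases lt_trichotomy (posI i) (posI j) with hlt | heq | hgt
  · have := hmono (posI j - posI i - 1) (posI i) (by omega)
    rw [show posI i + (posI j - posI i - 1) + 1 = posI j by omega, a2, b2, h] at this
    exact absurd this (lt_irrefl _)
  · rw [← a2, ← b2, heq]
  · have := hmono (posI i - posI j - 1) (posI j) (by omega)
    rw [show posI j + (posI i - posI j - 1) + 1 = posI i by omega, a2, b2, h] at this
    exact absurd this (lt_irrefl _)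

end H5.J4Out
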