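import Cfsg.Agent.H5.J4Out.Bits

/-! The size check for the normal elementary abelian subgroups. -/

set_option autoImplicit false
set_option maxRecDepth 100000

namespace H5.J4Out

theorem node_size : (Data.nodeL.zip Data.witL).all (fun p => Nat.beq p.1.length 1 ||
    (p.2.all (fun b => p.1.contains b) && Nat.blt (p.1.length * numFix p.2) 2048)) = true := by
  decide +kernel

end H5.J4Out
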