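import Cfsg.Agent.H5.J4Out.Action
import Cfsg.Agent.H5.J4Out.Codes

/-!
Two facts in dimension 112: two involutions of the subgroup 2^11:M24 are not conjugate, and x and
the word fixed by t fix only a plane.
-/

set_option autoImplicit false
set_option maxRecDepth 100000
set_option maxHeartbeats 400000

namespace H5.J4Out

open H26.BitCode H54.J4 H54.J4.Rep H54.J4.Lower

/-- the conjugator -/
def wWord : List ℕ := [1, 0, 2, 0, 1]
/-- its inverse -/
def wInv : List ℕ := [2, 0, 1, 0, 2]

/-- the code of a letter -/
noncomputable def letC : ℕ → ℕ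
  | 0 => cX
  | 1 => cY
  | _ => mulC cY cY

/-- the code of a word in x and y -/
noncomputable def wordC : List ℕ → ℕ
  | [] => cI
  | g :: w => mulC (letC g) (wordC w)

theorem is_wxy : ∀ w : List ℕ, (∀ g ∈ w, g < 3) → Is (rho (wxy w)) (wordC w)
  | [], _ => by rw [wxy, H26.J4Schur.wv, map_one]; exact Lower.is_one
  | g :: w, h => by
    have hg := h g List.mem_cons_self
    rw [show wxy (g :: w) = H26.J4Schur.gv gX gY 1 g * wxy w from rfl, map_mul]
    refine Is.mul ?_ (is_wxy w fun k hk => h k (List.mem_cons_of_mem _ hk))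
    rcases g with _ | _ | _ | g
    · show Is (rho gX) cX; rw [rho_gX]; exact isX
    · show Is (rho gY) cY; rw [rho_gY]; exact isY
    · show Is (rho (gY * gY)) (mulC cY cY); rw [map_mul, rho_gY]; exact isY.mul isY
    · omega

theorem link_check : mulC (mulC (mulC (mulC (wordC wWord) cT) (codeK 218 11)) cT) (wordC wInv) =
    mulC cX (codeK 1935 11) ∧ mulC (wordC wWord) (wordC wInv) = cI := by decide +kernel

theorem rank_check :
    mulC (mulC Data.cPX (Nat.xor cX cI)) Data.cQX = Data.cD56 ∧
    mulC (mulC Data.cUE Data.cD50) Data.cVE = Nat.xor (codeK 218 11) cI := by decide +kernel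

theorem diag_check : (∀ i k : Fin 112, cbit 112 Data.cD56 i.val k.val =
      (decide (i = k) && decide (i.val < 56))) ∧
    ∀ i k : Fin 112, cbit 112 Data.cD50 i.val k.val = (decide (i = k) && decide (i.val < 50)) := by
  decide +kernel

theorem rank_diag {c n : ℕ} (hn : n ≤ 112)
    (h : ∀ i k : Fin 112, cbit 112 c i.val k.val = (decide (i = k) && decide (i.val < n))) :
    (matC 112 c : Mat).rank = n := by
  have e : (matC 112 c : Mat) =
      Matrix.diagonal fun i : Fin 112 => if i.val < n then (1 : ZMod 2) else 0 := by
    ext i k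
    rw [H96.J4Irr.matC_apply, h, Matrix.diagonal_apply]
    by_cases hik : i = k <;> by_cases hin : i.val < n <;> simp [hik, hin, b2] <;> simp_all
  rw [e, Matrix.rank_diagonal]
  have h2 : ∀ i : Fin 112, ((if i.val < n then (1 : ZMod 2) else 0) ≠ 0) ↔ i.val < n := by
    intro i; split <;> simp [*]
  rw [Fintype.card_congr (Equiv.subtypeEquivRight h2)]
  exact Fintype.card_fin_lt_of_le hn

/-- vectors -/
abbrev Row : Type := Fin 112 → ZMod 2

/-- a vector from its bits -/
def rowV (b : ℕ) : Row := fun i => b2 (b.testBit i.val)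

/-- the vector fixed by x, y and s -/
def fxV : Row := rowV Data.fxBits

/-- its image under t -/
def fxtV : Row := rowV Data.fxtBits

/-- the image of a row -/
noncomputable def actR (b c : ℕ) : ℕ :=
  Nat.rec (motive := fun _ => ℕ) 0
    (fun i acc => Nat.xor acc (if b.testBit i then rowC 112 c i else 0)) 112

theorem rowV_act (b c : ℕ) : Matrix.vecMul (rowV b) (matC 112 c : Mat) = rowV (actR b c) := by
  funext k
  have key : ∀ n, n ≤ 112 →
      (∑ i ∈ Finset.univ.filter (fun i : Fin 112 => i.val < n),
        rowV b i * (matC 112 c : Mat) i k) =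
      b2 ((Nat.rec (motive := fun _ => ℕ) 0
        (fun i acc => Nat.xor acc (if b.testBit i then rowC 112 c i else 0)) n : ℕ).testBit k.val) := by
    intro n
    induction n with
    | zero => intro _; simp [b2]
    | succ n ih =>
      intro hn
      have hins : Finset.univ.filter (fun i : Fin 112 => i.val < n + 1) =
          insert (⟨n, by omega⟩ : Fin 112) (Finset.univ.filter fun i : Fin 112 => i.val < n) := by
        ext i; simp [Fin.ext_iff]; omega
      rw [hins, Finset.sum_insert (by simp), ih (by omega)]
      show _ = b2 (Nat.testBit (_ ^^^ _) _)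
      rw [Nat.testBit_xor, b2_xor, add_comm]
      congr 1
      rw [rowV, H96.J4Irr.matC_apply, ← b2_and]
      congr 1
      cases b.testBit n
      · simp
      · simp only [rowC, cbit, if_true, Bool.true_and]
        rw [Nat.testBit_mod_two_pow, Nat.testBit_shiftRight]
        simp [k.isLt]
  have h := key 112 le_rfl
  rw [Finset.filter_true_of_mem (fun i _ => i.isLt)] at h
  exact h

theorem fix_check : actR Data.fxBits cX = Data.fxBits ∧ actR Data.fxBits cY = Data.fxBits ∧
    actR Data.fxBits LowerData.cE0 = Data.fxBits ∧ actR Data.fxBits cT = Data.fxtBits ∧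
    actR Data.fxtBits cT = Data.fxBits := by decide +kernel

theorem fxtV_ne : fxtV ≠ fxV := fun h => by
  have := congrFun h Data.jA
  exact absurd this (by decide +kernel)

theorem plane_check :
    Nat.xor (mulC (Nat.xor cX cI) Data.cR1) (mulC (Nat.xor (wordC fWord) cI) Data.cR2) =
      Nat.xor cI Data.cP ∧
    (∀ i k : Fin 112, cbit 112 Data.cP i.val k.val =
      ((decide (i = Data.jA) && Data.fxBits.testBit k.val) ^^
        (decide (i = Data.jB) && Data.fxtBits.testBit k.val))) := by
  decide +kernel

end H5.J4Out
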