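import Cfsg.Agent.H5.J4Out.Fixed

/-!
Consequences of the checks in dimension 112.
-/

set_option autoImplicit false
set_option maxRecDepth 100000
set_option maxHeartbeats 400000

namespace H5.J4Out

open H26.BitCode H54.J4 H54.J4.Rep H54.J4.Lower

section

attribute [local irreducible] cX cY cT cI mulC matC cbit uX uY uT codeK wordC wxy psi Data.cP
  Data.cR1 Data.cR2 Data.cD56 Data.cD50 Data.cPX Data.cQX Data.cUE Data.cVE Data.fxBits Data.fxtBits

theorem link_eq (hi : Function.Injective rho) :
    wxy wWord * gT * psi 218 * gT * wxy wInv = gX * psi 1935 := hi (by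
  simp only [map_mul, rho_gX, rho_gT]
  have hs : ∀ g ∈ wWord, g < 3 := by decide
  have hs' : ∀ g ∈ wInv, g < 3 := by decide
  exact Lower.Is.unique (((((is_wxy _ hs).mul isT).mul (is_psi 218)).mul isT).mul (is_wxy _ hs'))
    (link_check.1 ▸ isX.mul (is_psi 1935)))

theorem link_inv (hi : Function.Injective rho) : wxy wInv = (wxy wWord)⁻¹ :=
  eq_inv_of_mul_eq_one_right (hi (by
    rw [map_mul, map_one]
    exact eq_one_of_is ((is_wxy _ (by decide)).mul (is_wxy _ (by decide))) link_check.2))

/-- x and the basis combination 218 are not conjugate -/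
theorem not_conj (g : Matˣ) : g * uX * g⁻¹ ≠ rho (psi 218) := by
  intro h
  have e : (matC 112 (Nat.xor (codeK 218 11) cI) : Mat) =
      (g : Mat) * matC 112 (Nat.xor cX cI) * ((g⁻¹ : Matˣ) : Mat) := by
    have h1 : ((g * uX * g⁻¹ : Matˣ) : Mat) = matC 112 (codeK 218 11) := by rw [h]; exact is_psi 218
    rw [H96.J4Irr.matC_xor, H96.J4Irr.matC_xor, matC_cI, ← h1, Units.val_mul, Units.val_mul,
      H96.J4Irr.valX, mul_add, add_mul, mul_one, Units.mul_inv]
  have e56 : (matC 112 Data.cD56 : Mat) = (matC 112 Data.cPX * ((g⁻¹ : Matˣ) : Mat) *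
      matC 112 Data.cUE) * matC 112 Data.cD50 * (matC 112 Data.cVE * (g : Mat) *
      matC 112 Data.cQX) := by
    have e1 : (matC 112 Data.cUE : Mat) * matC 112 Data.cD50 * matC 112 Data.cVE =
        matC 112 (Nat.xor (codeK 218 11) cI) := by
      rw [← matC_mulC, ← matC_mulC, rank_check.2]
    rw [← rank_check.1, matC_mulC, matC_mulC]
    calc (matC 112 Data.cPX : Mat) * matC 112 (Nat.xor cX cI) * matC 112 Data.cQX
        = matC 112 Data.cPX * (((g⁻¹ : Matˣ) : Mat) * ((g : Mat) * matC 112 (Nat.xor cX cI) *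
          ((g⁻¹ : Matˣ) : Mat)) * (g : Mat)) * matC 112 Data.cQX := by
          simp only [mul_assoc, Units.inv_mul_cancel_left, Units.inv_mul, mul_one]
      _ = _ := by rw [← e, ← e1]; simp only [mul_assoc]
  have r56 := rank_diag (n := 56) (by norm_num) diag_check.1
  have r50 := rank_diag (n := 50) (by norm_num) diag_check.2
  rw [e56] at r56
  have := (Matrix.rank_mul_le_left (_ * (matC 112 Data.cD50 : Mat))
    (matC 112 Data.cVE * (g : Mat) * matC 112 Data.cQX)).trans (Matrix.rank_mul_le_right (matC 112 Data.cPX *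
    ((g⁻¹ : Matˣ) : Mat) * matC 112 Data.cUE) (matC 112 Data.cD50))
  rw [r56, r50] at this
  omega

/-- a vector fixed by x and the word fixed by t lies in the plane -/
theorem fixed_plane {v : Row} (hx : Matrix.vecMul v (matC 112 cX : Mat) = v)
    (hw : Matrix.vecMul v (matC 112 (wordC fWord) : Mat) = v) :
    v = v Data.jA • fxV + v Data.jB • fxtV := by
  have h1 : Matrix.vecMul v (matC 112 (Nat.xor cI Data.cP) : Mat) = 0 := by
    rw [← plane_check.1, H96.J4Irr.matC_xor, matC_mulC, matC_mulC, H96.J4Irr.matC_xor,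
      H96.J4Irr.matC_xor, matC_cI, Matrix.vecMul_add, ← Matrix.vecMul_vecMul,
      ← Matrix.vecMul_vecMul, Matrix.vecMul_add, Matrix.vecMul_add, hx, hw, Matrix.vecMul_one,
      CharTwo.add_self_eq_zero, Matrix.zero_vecMul, Matrix.zero_vecMul, add_zero]
  rw [H96.J4Irr.matC_xor, matC_cI, Matrix.vecMul_add, Matrix.vecMul_one,
    CharTwo.add_eq_zero] at h1
  have hentry : ∀ i k : Fin 112, (matC 112 Data.cP : Mat) i k =
      (if i = Data.jA then fxV k else 0) + (if i = Data.jB then fxtV k else 0) := by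
    intro i k
    have hb : ∀ (P : Prop) [Decidable P] (q : Bool), b2 (decide P && q) = if P then b2 q else 0 := by
      intro P _ q; by_cases hP : P <;> simp [hP, b2]
    rw [H96.J4Irr.matC_apply, plane_check.2 i k, b2_xor, hb, hb]
    rfl
  refine h1.trans ?_
  funext k
  show ∑ i, v i * (matC 112 Data.cP : Mat) i k = v Data.jA * fxV k + v Data.jB * fxtV k
  rw [Finset.sum_congr rfl fun i _ => by rw [hentry i k, mul_add, mul_ite, mul_ite, mul_zero],
    Finset.sum_add_distrib, Finset.sum_ite_eq' Finset.univ Data.jA,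
    Finset.sum_ite_eq' Finset.univ Data.jB, if_pos (Finset.mem_univ _),
    if_pos (Finset.mem_univ _)]

end

end H5.J4Out
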