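import Cfsg.Agent.H5.J4Out.Sylow
import Cfsg.Agent.H5.J4Out.FixedFacts
import Cfsg.Agent.H97.OutM24

/-!
Every automorphism of the presented fourth Janko group is inner, provided the group is simple of
the stated order and the subgroup generated by x, y and s is maximal.
-/

set_option autoImplicit false
set_option maxRecDepth 100000
set_option maxHeartbeats 400000

namespace H5.J4Out

open H54.J4 H54.J4.Lower H54.J4.Rep H96.J4Simple H26.BitCode

theorem inner_of_card_out {G : Type*} [Group G] (h : Nat.card (Cfsg.Out G) = 1) (φ : MulAut G) :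
    ∃ g : G, ∀ x, φ x = g * x * g⁻¹ := by
  have := (Nat.card_eq_one_iff_unique.1 h).1
  have h1 : (QuotientGroup.mk φ : Cfsg.Out G) = QuotientGroup.mk 1 := Subsingleton.elim _ _
  rw [QuotientGroup.eq, mul_one, inv_mem_iff] at h1
  obtain ⟨g, hg⟩ := h1
  exact ⟨g, fun x => by rw [← hg]; exact MulAut.conj_apply g x⟩

theorem inner_pres (φ : Pres ≃* Pres) : ∃ g : Pres, ∀ x, φ x = g * x * g⁻¹ := by
  obtain ⟨g, hg⟩ := inner_of_card_out H97.MOut.card_out_M24
    ((presEquiv.symm.trans φ).trans presEquiv)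
  refine ⟨presEquiv.symm g, fun x => ?_⟩
  apply presEquiv.injective
  have := hg (presEquiv x)
  simpa using this

theorem pres_centralizer {m : Pres} (hx : Commute m H26.J4Schur.pA)
    (hw : Commute m (H26.J4Schur.fW H26.J4Schur.pA H26.J4Schur.pB)) : m = 1 := by
  refine H26.J4Schur.toPerm_injective ?_
  rw [map_one]
  refine H96.J4Irr.centralizer_trivial ?_ ?_
  · simpa [H26.J4Schur.toPerm_pA] using hx.map H26.J4Schur.toPerm
  · have h := hw.map H26.J4Schur.toPerm
    rw [H26.J4Schur.map_fW, H26.J4Schur.toPerm_pA, H26.J4Schur.toPerm_pB] at h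
    exact h

/-- the word fixed by t, in the presented group -/
noncomputable def gF : G4 := wxy fWord

theorem gF_eq : gF = H26.J4Schur.fW gX gY := by
  have hY : gY⁻¹ = gY * gY := jY_inv
  simp only [gF, wxy, fWord, H26.J4Schur.wv, H26.J4Schur.gv, H26.J4Schur.fW, hY, pow_succ, pow_zero,
    one_mul, mul_one, mul_assoc]

theorem t_comm : gT * gX = gX * gT ∧ gT * gF = gF * gT := by
  constructor
  · have h := j_rel (r := Cfsg.Spor.J4.t⁻¹ * Cfsg.Spor.J4.x⁻¹ * Cfsg.Spor.J4.t * Cfsg.Spor.J4.x)
      (by simp [Cfsg.Spor.J4.extra])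
    simp only [map_mul, map_inv] at h
    change gT⁻¹ * gX⁻¹ * gT * gX = 1 at h
    calc gT * gX = gX * gT * (gT⁻¹ * gX⁻¹ * gT * gX) := by group
      _ = gX * gT := by rw [h, mul_one]
  · have h := j_rel (r := Cfsg.Spor.J4.t⁻¹ * (Cfsg.Spor.J4.y * Cfsg.Spor.J4.x * Cfsg.Spor.J4.y *
      ((Cfsg.Spor.J4.x * (Cfsg.Spor.J4.y⁻¹)) ^ 2) * ((Cfsg.Spor.J4.x * Cfsg.Spor.J4.y) ^ 3))⁻¹ *
      Cfsg.Spor.J4.t * (Cfsg.Spor.J4.y * Cfsg.Spor.J4.x * Cfsg.Spor.J4.y *
      ((Cfsg.Spor.J4.x * (Cfsg.Spor.J4.y⁻¹)) ^ 2) * ((Cfsg.Spor.J4.x * Cfsg.Spor.J4.y) ^ 3)))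
      (by simp [Cfsg.Spor.J4.extra])
    simp only [map_mul, map_inv, map_pow] at h
    change gT⁻¹ * (H26.J4Schur.fW gX gY)⁻¹ * gT * H26.J4Schur.fW gX gY = 1 at h
    rw [← gF_eq] at h
    calc gT * gF = gF * gT * (gT⁻¹ * gF⁻¹ * gT * gF) := by group
      _ = gF * gT := by rw [h, mul_one]

theorem gT_sq : gT * gT = 1 := by
  have h := j_rel (r := Cfsg.Spor.J4.t ^ 2) (by simp [Cfsg.Spor.J4.extra])
  rw [map_pow, pow_two] at h
  exact h

section

attribute [local irreducible] cX cY cT cI mulC matC cbit uX uY uT uS codeK wordC powC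
  Data.fxBits Data.fxtBits

variable (hcard : Nat.card G4 = 86775571046077562880) (hsimple : IsSimpleGroup G4)
  (hmax : ∀ H : Subgroup G4, jN ≤ H → H = jN ∨ H = ⊤)

include hcard hsimple hmax

theorem normalizer_eSub : Subgroup.normalizer (eSub (rho_inj hcard) : Set G4) = jN := by
  refine (hmax _ (normal_eSub _)).resolve_right fun h => ?_
  haveI := Subgroup.normalizer_eq_top_iff.1 h
  have hE := card_eSub (rho_inj hcard)
  rcases hsimple.eq_bot_or_eq_top_of_normal (eSub (rho_inj hcard)) inferInstance with e | e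
  · rw [e, Subgroup.card_bot] at hE; omega
  · rw [e, Subgroup.card_top, hcard] at hE; omega

/-- every automorphism carries the subgroup of order 2^11 to a conjugate -/
theorem exists_conj_eSub (α : MulAut G4) : ∃ g : G4, ∀ e ∈ eSub (rho_inj hcard),
    g * α e * g⁻¹ ∈ eSub (rho_inj hcard) := by
  set hi := rho_inj hcard
  have : Finite G4 := finite_G4 hcard
  haveI := Fact.mk Nat.prime_two
  have hS : IsPGroup 2 (sSub hi) :=
    IsPGroup.of_card (n := 21) (by rw [card_sSub hi]; norm_num)
  have hS' : IsPGroup 2 ((sSub hi).map α.toMonoidHom) := hS.map _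
  have hbound : ∀ P : Sylow 2 G4, Nat.card P ≤ 2097152 := by
    intro P
    obtain ⟨n, hn⟩ := IsPGroup.iff_card.1 P.isPGroup'
    rw [hn]
    have hd : 2 ^ n ∣ 86775571046077562880 := hcard ▸ hn ▸ Subgroup.card_subgroup_dvd_card _
    rw [two_factor] at hd
    by_contra hlt
    have h22 : 22 ≤ n := by
      by_contra h'
      exact hlt (le_trans (Nat.pow_le_pow_right (by norm_num) (show n ≤ 21 by omega)) (by norm_num))
    have h3 : 2 ^ 22 ∣ 2 ^ 21 * 41377816699065 := (pow_dvd_pow 2 h22).trans hd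
    norm_num at h3
  obtain ⟨P, hP⟩ := hS.exists_le_sylow
  obtain ⟨Q, hQ⟩ := hS'.exists_le_sylow
  have hPeq : sSub hi = P := Subgroup.eq_of_le_of_card_ge hP (by
    rw [card_sSub hi]; exact hbound P)
  have hQeq : (sSub hi).map α.toMonoidHom = Q := Subgroup.eq_of_le_of_card_ge hQ (by
    rw [Subgroup.card_map_of_injective α.injective, card_sSub hi]; exact hbound Q)
  obtain ⟨g, hg⟩ := MulAction.exists_smul_eq G4 Q P
  let β : MulAut G4 := MulAut.conj g * α
  have hβ : (sSub hi).map β.toMonoidHom = sSub hi := by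
    have e : ((g • Q : Sylow 2 G4) : Subgroup G4) =
        (Q : Subgroup G4).map (MulAut.conj g).toMonoidHom := rfl
    conv_rhs => rw [hPeq, ← hg, e, ← hQeq, Subgroup.map_map]
    rfl
  have hA : (eSub hi).map β.toMonoidHom = eSub hi := by
    apply normal_elem_unique hi
    · exact hβ ▸ Subgroup.map_mono (eSub_le_sSub hi)
    · rw [Subgroup.card_map_of_injective β.injective, card_eSub hi]
    · rintro h hh _ ⟨e, he, rfl⟩
      rw [← hβ] at hh
      obtain ⟨s, hs, rfl⟩ := hh
      refine ⟨s⁻¹ * e * s, ?_, by rw [map_mul, map_mul, map_inv]⟩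
      have h' := (Subgroup.mem_normalizer_iff.1 (inv_mem (normal_eSub hi hs.1)) e).1 he
      simpa using h'
    · rintro _ ⟨_, ⟨v, -, rfl⟩, rfl⟩ _ ⟨_, ⟨w, -, rfl⟩, rfl⟩
      rw [← map_mul, ← map_mul, psi_comm hi]
    · rintro _ ⟨_, ⟨v, -, rfl⟩, rfl⟩
      rw [← map_mul, psi_sq hi, map_one]
  exact ⟨g, fun e he => hA ▸ ⟨e, he, MulAut.conj_apply g (α e)⟩⟩

omit hsimple hmax in
theorem map_eq_of_le {β : MulAut G4} {H : Subgroup G4}
    (h : ∀ e ∈ H, β e ∈ H) : H.map β.toMonoidHom = H := by
  have : Finite G4 := finite_G4 hcard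
  refine Subgroup.eq_of_le_of_card_ge (by rintro _ ⟨e, he, rfl⟩; exact h e he) ?_
  rw [Subgroup.card_map_of_injective β.injective]

/-- modulo inner automorphisms, an automorphism is trivial on the quotient by the subgroup 2^11 -/
theorem exists_adjusted (α : MulAut G4) : ∃ g : G4,
    (∀ e ∈ eSub (rho_inj hcard), g * α e * g⁻¹ ∈ eSub (rho_inj hcard)) ∧
    ∀ m : Pres, ∃ v, v < 2048 ∧ g * α (toJ m) * g⁻¹ = psi v * toJ m := by
  set hi := rho_inj hcard
  have : Finite G4 := finite_G4 hcard
  obtain ⟨g0, hg0⟩ := exists_conj_eSub hcard hsimple hmax α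
  let β : MulAut G4 := MulAut.conj g0 * α
  have hβE : ∀ e ∈ eSub hi, β e ∈ eSub hi := hg0
  have hβmap := map_eq_of_le hcard hβE
  have hβN : ∀ n ∈ jN, β n ∈ jN := by
    intro n hn
    rw [← normalizer_eSub hcard hsimple hmax] at hn ⊢
    rw [Subgroup.mem_normalizer_iff] at hn ⊢
    intro h
    have hsymm : ∀ k, k ∈ eSub hi ↔ β.symm k ∈ eSub hi := fun k =>
      ⟨fun hk => by
        rw [← hβmap] at hk
        obtain ⟨e, he, rfl⟩ := hk
        simpa using he, fun hk => by simpa using hβE _ hk⟩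
    rw [hsymm h, hsymm (β n * h * (β n)⁻¹), hn (β.symm h)]
    simp
  have hdec : ∀ m : Pres, ∃ m' : Pres, ∃ v, v < 2048 ∧ β (toJ m) = psi v * toJ m' := fun m => by
    obtain ⟨v, m', hv, e⟩ := jN_decomp hi (hβN _ (H96.J4Simple.toJ_range_le ⟨m, rfl⟩))
    exact ⟨m', v, hv, e⟩
  choose f vf hvf hf using hdec
  have hswap : ∀ v (m : Pres), v < 2048 → ∃ w, w < 2048 ∧ toJ m * psi v = psi w * toJ m := by
    intro v m hv
    obtain ⟨w, hw, e⟩ := (Subgroup.mem_normalizer_iff.1
      (toJ_range_le_normalizer hi ⟨m, rfl⟩) _).1 (psi_mem_eSub hi hv)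
    exact ⟨w, hw, by rw [← e, inv_mul_cancel_right]⟩
  have fmul : ∀ a b, f (a * b) = f a * f b := by
    intro a b
    obtain ⟨w, hw, ew⟩ := hswap (vf b) (f a) (hvf b)
    have e : psi (vf (a * b)) * toJ (f (a * b)) = psi (vf a ^^^ w) * toJ (f a * f b) := by
      rw [← hf, map_mul toJ, map_mul β, hf, hf, psi_xor hi, map_mul]
      calc psi (vf a) * toJ (f a) * (psi (vf b) * toJ (f b))
          = psi (vf a) * (toJ (f a) * psi (vf b)) * toJ (f b) := by group
        _ = _ := by rw [ew]; group
    exact (decomp_unique hi (hvf _) (Nat.xor_lt_two_pow (n := 11) (hvf a) hw) e).2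
  let fh : Pres →* Pres := MonoidHom.mk' f fmul
  have hinj : Function.Injective fh := by
    rw [injective_iff_map_eq_one]
    intro m hm
    have h1 : β (toJ m) ∈ eSub hi := by
      rw [hf, show f m = 1 from hm, map_one, mul_one]
      exact psi_mem_eSub hi (hvf m)
    rw [← hβmap] at h1
    obtain ⟨e, he, e2⟩ := h1
    exact toJ_mem_eSub hi (β.injective e2 ▸ he)
  have : Finite Pres := Finite.of_injective _ toJ_injective
  obtain ⟨u, hu⟩ := inner_pres (MulEquiv.ofBijective fh ⟨hinj,
    (Finite.injective_iff_surjective.1 hinj)⟩)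
  refine ⟨(toJ u)⁻¹ * g0, fun e he => ?_, fun m => ?_⟩
  · have h1 := (Subgroup.mem_normalizer_iff.1
      (inv_mem (toJ_range_le_normalizer hi ⟨u, rfl⟩)) _).1 (hβE e he)
    rw [inv_inv] at h1
    rw [show (toJ u)⁻¹ * g0 * α e * ((toJ u)⁻¹ * g0)⁻¹ = (toJ u)⁻¹ * (g0 * α e * g0⁻¹) * toJ u by
      group]
    exact h1
  · obtain ⟨w, hw, ew⟩ := hswap (vf m) u⁻¹ (hvf m)
    refine ⟨w, hw, ?_⟩
    have hfm : f m = u * m * u⁻¹ := hu m
    rw [show (toJ u)⁻¹ * g0 * α (toJ m) * ((toJ u)⁻¹ * g0)⁻¹ =
      (toJ u)⁻¹ * (g0 * α (toJ m) * g0⁻¹) * toJ u by group]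
    rw [show g0 * α (toJ m) * g0⁻¹ = psi (vf m) * toJ (f m) from hf m, hfm, map_mul, map_mul,
      map_inv]
    rw [map_inv] at ew
    calc (toJ u)⁻¹ * (psi (vf m) * (toJ u * toJ m * (toJ u)⁻¹)) * toJ u
        = (toJ u)⁻¹ * psi (vf m) * toJ u * toJ m := by group
      _ = psi w * toJ m := by rw [ew]; group

/-- the stabiliser of the fixed vector is the subgroup generated by x, y and s -/
theorem mem_of_fix {g : G4} (h : Matrix.vecMul fxV (rho g : Mat) = fxV) : g ∈ jN := by
  let H : Subgroup G4 :=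
    { carrier := {g | Matrix.vecMul fxV (rho g : Mat) = fxV}
      one_mem' := by simp
      mul_mem' := fun {a b} (ha : Matrix.vecMul fxV (rho a : Mat) = fxV)
          (hb : Matrix.vecMul fxV (rho b : Mat) = fxV) => by
        show Matrix.vecMul fxV (rho (a * b) : Mat) = fxV
        rw [map_mul, Units.val_mul, ← Matrix.vecMul_vecMul, ha, hb]
      inv_mem' := fun {a} (ha : Matrix.vecMul fxV (rho a : Mat) = fxV) => by
        show Matrix.vecMul fxV (rho a⁻¹ : Mat) = fxV
        conv_lhs => rw [← ha, Matrix.vecMul_vecMul, ← Units.val_mul, ← map_mul, mul_inv_cancel,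
          map_one, Units.val_one, Matrix.vecMul_one] }
  have hle : jN ≤ H := by
    refine jN_le ?_ ?_ ?_
    · show Matrix.vecMul fxV (rho gX : Mat) = fxV
      rw [rho_gX, isX, fxV, rowV_act, fix_check.1]
    · show Matrix.vecMul fxV (rho gY : Mat) = fxV
      rw [rho_gY, isY, fxV, rowV_act, fix_check.2.1]
    · show Matrix.vecMul fxV (rho gS0 : Mat) = fxV
      rw [rho_gS, isS, fxV, rowV_act, fix_check.2.2.1]
  rcases hmax H hle with e | e
  · rw [← e]; exact h
  · exfalso
    have ht : gT ∈ H := e ▸ Subgroup.mem_top _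
    change Matrix.vecMul fxV (rho gT : Mat) = fxV at ht
    rw [rho_gT, isT, fxV, rowV_act, fix_check.2.2.2.1] at ht
    exact fxtV_ne ht

omit hsimple hmax in
theorem centralizer_L {n : G4} (hn : n ∈ jN) (hx : Commute n gX) (hw : Commute n gF) : n = 1 := by
  set hi := rho_inj hcard
  obtain ⟨v, m, hv, rfl⟩ := jN_decomp hi hn
  have key : ∀ (g : G4) (m0 : Pres) (w : ℕ), g = toJ m0 → w < 2048 → g⁻¹ * psi v * g = psi w →
      Commute (psi v * toJ m) g → w = v ∧ Commute m m0 := by
    intro g m0 w hg hwlt hgw hc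
    have e : psi w * toJ (m0⁻¹ * m * m0) = psi v * toJ m := by
      rw [map_mul, map_mul, map_inv, ← hg, ← hgw]
      calc g⁻¹ * psi v * g * (g⁻¹ * toJ m * g) = g⁻¹ * ((psi v * toJ m) * g) := by group
        _ = psi v * toJ m := by rw [hc.eq]; group
    obtain ⟨e1, e2⟩ := decomp_unique hi hwlt hv e
    refine ⟨e1, ?_⟩
    show m * m0 = m0 * m
    nth_rewrite 2 [← e2]
    group
  have ex : gX = toJ H26.J4Schur.pA := toJ_gA.symm
  have ef : gF = toJ (H26.J4Schur.wv H26.J4Schur.pA H26.J4Schur.pB 1 fWord) := (wxy_toJ _).symm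
  obtain ⟨h1, h2⟩ := key gX _ _ ex (actV_lt _ _) ((acts_X hi).apply hi v) hx
  have hlt : actW fWord v < 2048 := by
    rw [show fWord = 1 :: [0, 1, 0, 2, 0, 2, 0, 1, 0, 1, 0, 1] from rfl]
    simp only [actW]
    exact actV_lt _ _
  obtain ⟨h3, h4⟩ := key gF _ _ ef hlt (word_apply hi fWord (by decide) v) hw
  have hm : m = 1 := pres_centralizer h2 (by
    convert h4 using 1
    have hY : H26.J4Schur.pB⁻¹ = H26.J4Schur.pB * H26.J4Schur.pB := by
      refine inv_eq_of_mul_eq_one_right ?_
      rw [← mul_assoc, ← pow_two, ← pow_succ, H26.J4Schur.P_rels.2.1]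
    simp only [fWord, H26.J4Schur.wv, H26.J4Schur.gv, H26.J4Schur.fW, hY, pow_succ, pow_zero,
      one_mul, mul_one, mul_assoc])
  have hv0 : v = 0 := by
    have h := List.all_eq_true.1 fix_xf v (List.mem_range.2 hv)
    simpa [h1, h3] using h
  rw [hm, hv0, psi_zero, map_one, mul_one]

/-- an automorphism fixing x, y and the subgroup 2^11 pointwise fixes t -/
theorem fix_t (β : MulAut G4) (hX : β gX = gX) (hY : β gY = gY) : β gT = gT := by
  set hi := rho_inj hcard
  set c := gT * β gT with hc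
  have hF : β gF = gF := by
    rw [gF_eq, H26.J4Schur.fW]
    simp only [map_mul, map_pow, map_inv, hX, hY]
  have cx : Commute c gX := by
    refine Commute.mul_left t_comm.1 ?_
    show β gT * gX = gX * β gT
    rw [← hX, ← map_mul, ← map_mul, t_comm.1]
  have cf : Commute c gF := by
    refine Commute.mul_left t_comm.2 ?_
    show β gT * gF = gF * β gT
    rw [← hF, ← map_mul, ← map_mul, t_comm.2]
  set v := Matrix.vecMul fxV (rho c : Mat) with hv
  have hplane : v = v Data.jA • fxV + v Data.jB • fxtV := by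
    refine fixed_plane ?_ ?_
    · rw [hv, Matrix.vecMul_vecMul, ← show (rho gX : Mat) = matC 112 cX from by rw [rho_gX]; exact isX,
        ← Units.val_mul, ← map_mul, cx.eq, map_mul, Units.val_mul, ← Matrix.vecMul_vecMul, rho_gX,
        isX, fxV, rowV_act, fix_check.1]
    · have hw : (rho gF : Mat) = matC 112 (wordC fWord) := is_wxy _ (by decide)
      have hfixF : Matrix.vecMul fxV (rho gF : Mat) = fxV := by
        have hmem : gF ∈ jN := H96.J4Simple.toJ_range_le ⟨_, wxy_toJ _⟩
        have hker : ∀ g ∈ jN, Matrix.vecMul fxV (rho g : Mat) = fxV := by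
          intro g hg
          rw [jN, MonoidHom.map_closure] at hg
          induction hg using Subgroup.closure_induction with
          | mem g hg =>
            simp only [Set.image_insert_eq, Set.image_singleton] at hg
            rcases hg with rfl | rfl | rfl
            · rw [show PresentedGroup.mk jRels Cfsg.Spor.J4.x = gX from rfl, rho_gX, isX, fxV,
                rowV_act, fix_check.1]
            · rw [show PresentedGroup.mk jRels Cfsg.Spor.J4.y = gY from rfl, rho_gY, isY, fxV,
                rowV_act, fix_check.2.1]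
            · rw [show PresentedGroup.mk jRels sWord = gS0 from rfl, rho_gS, isS, fxV, rowV_act,
                fix_check.2.2.1]
          | one => simp
          | mul a b _ _ ha hb => rw [map_mul, Units.val_mul, ← Matrix.vecMul_vecMul, ha, hb]
          | inv a _ ha =>
            conv_lhs => rw [← ha, Matrix.vecMul_vecMul, ← Units.val_mul, ← map_mul, mul_inv_cancel,
              map_one, Units.val_one, Matrix.vecMul_one]
        exact hker _ hmem
      rw [hv, Matrix.vecMul_vecMul, ← hw, ← Units.val_mul, ← map_mul, cf.eq, map_mul, Units.val_mul,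
        ← Matrix.vecMul_vecMul, hfixF]
  have htx : ∀ u : Row, ∀ g : G4, Matrix.vecMul (Matrix.vecMul u (rho g : Mat)) (rho g⁻¹ : Mat) = u := by
    intro u g
    rw [Matrix.vecMul_vecMul, ← Units.val_mul, ← map_mul, mul_inv_cancel, map_one, Units.val_one,
      Matrix.vecMul_one]
  have hfxt : Matrix.vecMul fxV (rho gT : Mat) = fxtV := by
    rw [rho_gT, isT, fxV, rowV_act, fix_check.2.2.2.1]; rfl
  have hfxtt : Matrix.vecMul fxtV (rho gT : Mat) = fxV := by
    rw [rho_gT, isT, fxtV, rowV_act, fix_check.2.2.2.2]; rfl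
  have tinv : gT⁻¹ = gT := inv_eq_of_mul_eq_one_right gT_sq
  have hne : β gT ≠ 1 := by
    intro h
    have h1 : gT = 1 := β.injective (h.trans (map_one β).symm)
    rw [h1, map_one, Units.val_one, Matrix.vecMul_one] at hfxt
    exact fxtV_ne hfxt.symm
  have ht1 : gT ≠ 1 := fun h => hne (by rw [h, map_one])
  have hzo : ∀ a : ZMod 2, a = 0 ∨ a = 1 := by decide
  rcases hzo (v Data.jA) with ha | ha <;> rcases hzo (v Data.jB) with hb | hb <;>
    rw [ha, hb] at hplane <;>
    simp only [zero_smul, one_smul, zero_add, add_zero] at hplane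
  · exfalso
    have h0 := htx fxV c
    rw [← hv, hplane, Matrix.zero_vecMul] at h0
    apply fxtV_ne
    rw [← hfxt, ← h0, Matrix.zero_vecMul]
  · exfalso
    have h1 : Matrix.vecMul fxV (rho (c * gT) : Mat) = fxV := by
      rw [map_mul, Units.val_mul, ← Matrix.vecMul_vecMul, ← hv, hplane, hfxtt]
    have h2 := centralizer_L hcard (mem_of_fix hcard hsimple hmax h1) (cx.mul_left t_comm.1)
      (cf.mul_left t_comm.2)
    apply hne
    calc β gT = gT⁻¹ * c := by rw [hc]; group
      _ = gT⁻¹ * ((c * gT) * gT⁻¹) := by group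
      _ = gT⁻¹ * gT⁻¹ := by rw [h2, one_mul]
      _ = 1 := by rw [tinv, gT_sq]
  · have h2 := centralizer_L hcard (mem_of_fix hcard hsimple hmax (hv.symm.trans hplane)) cx cf
    calc β gT = gT⁻¹ * c := by rw [hc]; group
      _ = gT := by rw [h2, mul_one, tinv]
  · exfalso
    have h1 : Matrix.vecMul fxV (rho (c * gT * c⁻¹) : Mat) = fxV := by
      rw [map_mul, map_mul, Units.val_mul, Units.val_mul, ← Matrix.vecMul_vecMul,
        ← Matrix.vecMul_vecMul, ← hv, hplane, Matrix.add_vecMul, hfxt, hfxtt, add_comm, ← hplane,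
        hv, htx]
    have h2 := centralizer_L hcard (mem_of_fix hcard hsimple hmax h1)
      ((cx.mul_left t_comm.1).mul_left cx.inv_left) ((cf.mul_left t_comm.2).mul_left cf.inv_left)
    exact ht1 (conj_eq_one_iff.1 h2)

/-- an automorphism fixing E setwise and trivial on the quotient is inner -/
theorem inner_of_adjusted (β : MulAut G4) (hE : ∀ e ∈ eSub (rho_inj hcard), β e ∈ eSub (rho_inj hcard))
    (hM : ∀ m : Pres, ∃ v, v < 2048 ∧ β (toJ m) = psi v * toJ m) :
    ∃ f : G4, ∀ x, f * β x * f⁻¹ = x := by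
  set hi := rho_inj hcard
  -- the action on 2^11 commutes with that of the code group
  have hconjm : ∀ (m : Pres) (e : G4), e ∈ eSub hi →
      β ((toJ m)⁻¹ * e * toJ m) = (toJ m)⁻¹ * β e * toJ m := by
    intro m e he
    obtain ⟨v, -, hv⟩ := hM m
    obtain ⟨w, -, hw⟩ := hE e he
    rw [map_mul, map_mul, map_inv, hv, hw, mul_inv_rev, psi_inv hi]
    calc (toJ m)⁻¹ * psi v * psi w * (psi v * toJ m)
        = (toJ m)⁻¹ * (psi v * psi w * psi v) * toJ m := by group
      _ = _ := by rw [psi_comm hi v w, mul_assoc (psi w), psi_sq hi, mul_one]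
  have he0 : β (eg 0) = eg 0 := by
    obtain ⟨w, hw, hwe⟩ := hE _ (eg_mem_eSub hi (show 0 < 11 by norm_num))
    have hfix : ∀ l : List ℕ, (∀ g ∈ l, g < 3) → actW l 1 = 1 → psi (actW l w) = psi w := by
      intro l hl h1
      have h := word_apply hi l hl 1
      rw [h1, show psi 1 = eg 0 from psi_pow (i := 0) (by norm_num), ← wxy_toJ l] at h
      have h2 := hconjm (H26.J4Schur.wv H26.J4Schur.pA H26.J4Schur.pB 1 l) (eg 0)
        (eg_mem_eSub hi (show 0 < 11 by norm_num))
      rw [h, hwe, wxy_toJ, word_apply hi l hl] at h2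
      exact h2.symm
    have hlt : ∀ l : List ℕ, ∀ u, u < 2048 → actW l u < 2048 := by
      intro l
      induction l with
      | nil => intro u hu; exact hu
      | cons g l ih =>
        intro u hu
        rcases g with _ | _ | g <;> exact ih _ (actV_lt _ _)
    have h1 := psi_inj hi (hlt _ _ hw) hw (hfix stabA (by decide) stab_fix.1)
    have h2 := psi_inj hi (hlt _ _ hw) hw (hfix [1] (by decide) stab_fix.2)
    have h := List.all_eq_true.1 stab_only w (List.mem_range.2 hw)
    simp only [Bool.or_eq_true, Bool.not_eq_true', Nat.beq_eq] at h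
    rcases h with ((h | h) | h) | h
    · exfalso
      rw [h, psi_zero] at hwe
      have h0 := β.injective (hwe.trans (map_one β).symm)
      rw [← psi_pow (show 0 < 11 by norm_num)] at h0
      exact absurd (psi_eq_one hi (by norm_num) h0) (by norm_num)
    · rw [hwe, h]; exact psi_pow (i := 0) (by norm_num)
    · exact absurd h1 (Nat.ne_of_beq_eq_false h)
    · exact absurd h2 (Nat.ne_of_beq_eq_false h)
  have heg : ∀ k < 11, β (eg k) = eg k := by
    intro k
    induction k using Nat.strong_induction_on with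
    | _ k ih =>
      intro hk
      match k with
      | 0 => exact he0
      | k + 1 =>
        obtain ⟨hc, hle⟩ := chain_ok k (by omega)
        set p := (LowerData.chain.getD k (0, 0)).1
        have hp : β (eg p) = eg p := ih p (by omega) (by omega)
        have hpe : eg p ∈ eSub hi := eg_mem_eSub hi (by omega)
        split_ifs at hc with h0
        · have h' : Is (uX * eU p * uX) (LowerData.basis.getD (k + 1) cI) := by
            rw [← hc]; exact (isX.mul (is_eU (show p < 11 by omega))).mul isX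
          have e : eg (k + 1) = (toJ gA)⁻¹ * eg p * toJ gA := by
            rw [toJ_gA, jX_inv]
            refine hi ?_
            rw [rho_eg (show k + 1 < 11 by omega), map_mul, map_mul,
              rho_eg (show p < 11 by omega), show rho jX = uX from rho_mk_x]
            exact Lower.Is.unique (is_eU (show k + 1 < 11 by omega)) h'
          rw [e, hconjm _ _ hpe, hp]
        · have h' : Is (uY * uY * eU p * uY) (LowerData.basis.getD (k + 1) cI) := by
            rw [← hc]; exact ((isY.mul isY).mul (is_eU (show p < 11 by omega))).mul isY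
          have e : eg (k + 1) = (toJ gB⁻¹)⁻¹ * eg p * toJ gB⁻¹ := by
            simp only [map_inv, toJ_gB, inv_inv]
            rw [jY_inv]
            refine hi ?_
            rw [rho_eg (show k + 1 < 11 by omega), map_mul, map_mul, map_mul,
              rho_eg (show p < 11 by omega), show rho jY = uY from rho_mk_y]
            exact Lower.Is.unique (is_eU (show k + 1 < 11 by omega)) h'
          rw [e, hconjm _ _ hpe, hp]
  have hpsi : ∀ v, β (psi v) = psi v := by
    intro v
    have : ∀ k ≤ 11, β (psiK k v) = psiK k v := by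
      intro k
      induction k with
      | zero => intro _; exact map_one β
      | succ k ih =>
        intro hk
        rw [psiK, map_mul, ih (by omega)]
        split
        · rw [heg k (by omega)]
        · rw [map_one]
    exact this 11 le_rfl
  -- y
  obtain ⟨b, hb, hby⟩ := hM gB⁻¹
  have ey : toJ gB⁻¹ = gY := by rw [map_inv, toJ_gB, inv_inv]; rfl
  rw [ey] at hby
  have hy3 : gY * gY * gY = 1 := jY_cube
  have hswY : ∀ u, psi u * gY = gY * psi (actV u Data.cYm) := fun u => by
    rw [← (acts_Y hi).apply hi]; group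
  have hb' : ∃ b', b' < 2048 ∧ β gY = gY * psi b' :=
    ⟨actV b Data.cYm, actV_lt _ _, hby.trans (hswY b)⟩
  obtain ⟨b', hb'lt, hb'y⟩ := hb'
  have hcube : psi (actV (actV b' Data.cYm) Data.cYm) * psi (actV b' Data.cYm) * psi b' = 1 := by
    have h := congrArg β hy3
    rw [map_mul, map_mul, map_one, hb'y] at h
    calc _ = gY * gY * gY *
          (psi (actV (actV b' Data.cYm) Data.cYm) * psi (actV b' Data.cYm) * psi b') := by
          rw [hy3, one_mul]
      _ = gY * gY * (psi (actV b' Data.cYm) * gY) * (psi (actV b' Data.cYm) * psi b') := by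
          rw [hswY]; simp only [mul_assoc]
      _ = gY * (gY * psi (actV b' Data.cYm)) * (gY * psi (actV b' Data.cYm)) * psi b' := by
          simp only [mul_assoc]
      _ = gY * psi b' * gY * (gY * psi (actV b' Data.cYm)) * psi b' := by
          rw [← hswY]; simp only [mul_assoc]
      _ = 1 := by rw [← hswY]; simp only [mul_assoc] at h ⊢; exact h
  -- conjugate to fix y
  set f1 := psi (actV b' Data.cYm) with hf1
  let β1 : MulAut G4 := MulAut.conj f1 * β
  have hβ1 : ∀ g, β1 g = f1 * β g * f1⁻¹ := fun g => MulAut.conj_apply f1 (β g)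
  have h1psi : ∀ v, β1 (psi v) = psi v := fun v => by
    rw [hβ1, hpsi, psi_inv hi, hf1, psi_comm hi _ v, mul_assoc, psi_sq hi, mul_one]
  have h1y : β1 gY = gY := by
    rw [hβ1, hb'y, hf1, psi_inv hi, ← mul_assoc, hswY, mul_assoc, mul_assoc]
    have h2 : psi (actV (actV b' Data.cYm) Data.cYm) * (psi b' * psi (actV b' Data.cYm)) = 1 := by
      rw [psi_comm hi b', ← mul_assoc]; exact hcube
    rw [h2, mul_one]
  obtain ⟨a, ha, hax⟩ := hM gA
  rw [show toJ gA = gX from toJ_gA, ] at hax
  have hswX : ∀ u, psi u * gX = gX * psi (actV u Data.cXm) := fun u => by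
    rw [← (acts_X hi).apply hi]; group
  obtain ⟨a', ha', h1x⟩ : ∃ a', a' < 2048 ∧ β1 gX = gX * psi a' := by
    refine ⟨actV (actV b' Data.cYm) Data.cXm ^^^ (actV a Data.cXm ^^^ actV b' Data.cYm),
      Nat.xor_lt_two_pow (n := 11) (actV_lt _ _) (Nat.xor_lt_two_pow (n := 11) (actV_lt _ _)
        (actV_lt _ _)), ?_⟩
    rw [hβ1, hax, psi_inv hi, hswX, psi_xor hi, psi_xor hi, hf1, ← mul_assoc, ← mul_assoc, hswX]
    simp only [mul_assoc]
  have hx2 : gX * gX = 1 := jX_sq
  have hafix : actV a' Data.cXm = a' := by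
    refine psi_inj hi (actV_lt _ _) ha' ?_
    have h := congrArg β1 hx2
    rw [map_mul, map_one, h1x] at h
    have h2 : psi (actV a' Data.cXm) * psi a' = 1 := by
      calc _ = gX * gX * (psi (actV a' Data.cXm) * psi a') := by rw [hx2, one_mul]
        _ = gX * (psi a' * gX) * psi a' := by rw [hswX]; simp only [mul_assoc]
        _ = 1 := by simp only [mul_assoc] at h ⊢; exact h
    rw [mul_eq_one_iff_eq_inv, psi_inv hi] at h2
    exact h2
  -- x·e can be moved to x when e is in the listed set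
  have hlist : ∀ e, bList.contains e = true → ∃ u, (∀ v, psi u * psi v * psi u = psi v) ∧
      psi u * gY * psi u = gY ∧ psi u * (gX * psi e) * psi u = gX := by
    intro e he
    rw [List.contains_iff_mem, bList, List.mem_map] at he
    obtain ⟨u, hu, rfl⟩ := he
    have hu' := List.all_eq_true.1 fixY_ok u hu
    simp only [Bool.and_eq_true, Nat.beq_eq] at hu'
    refine ⟨u, fun v => ?_, ?_, ?_⟩
    · rw [psi_comm hi u, mul_assoc, psi_sq hi, mul_one]
    · rw [hswY, hu'.1, mul_assoc, psi_sq hi, mul_one]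
    · rw [← mul_assoc, hswX, show Nat.xor (actV u Data.cXm) u = actV u Data.cXm ^^^ u from rfl,
        psi_xor hi, mul_assoc gX, mul_assoc gX, ← mul_assoc (psi (actV u Data.cXm)),
        psi_sq hi, one_mul, psi_sq hi, mul_one]
  have hsplit := List.all_eq_true.1 split_x a' (List.mem_range.2 ha')
  simp only [hafix, Nat.beq_refl, Bool.not_true, Bool.false_or, Bool.or_eq_true] at hsplit
  rcases hsplit with hin | hout
  · obtain ⟨u, huv, huy, hux⟩ := hlist a' hin
    let β2 : MulAut G4 := MulAut.conj (psi u) * β1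
    have hβ2 : ∀ g, β2 g = psi u * β1 g * psi u := fun g => by
      show MulAut.conj (psi u) (β1 g) = _
      rw [MulAut.conj_apply, psi_inv hi]
    have h2x : β2 gX = gX := by rw [hβ2, h1x, hux]
    have h2y : β2 gY = gY := by rw [hβ2, h1y, huy]
    have h2t := fix_t hcard hsimple hmax β2 h2x h2y
    refine ⟨psi u * f1, fun z => ?_⟩
    have hall : β2.toMonoidHom = MonoidHom.id G4 := by
      refine MonoidHom.eq_of_eqOn_dense closure_top ?_
      rintro z (rfl | rfl | rfl)
      · exact h2x
      · exact h2y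
      · exact h2t
    have h := DFunLike.congr_fun hall z
    change β2 z = z at h
    rw [hβ2, hβ1] at h
    rw [mul_inv_rev, psi_inv hi u]
    calc psi u * f1 * β z * (f1⁻¹ * psi u) = psi u * (f1 * β z * f1⁻¹) * psi u := by group
      _ = z := h
  · exfalso
    obtain ⟨u, -, -, hux⟩ := hlist _ hout
    have e0 : Nat.xor a' 1935 = a' ^^^ 1935 := rfl
    rw [e0, psi_xor hi, ← mul_assoc gX] at hux
    set W := wxy wWord * gT with hW
    have hl : gX * psi 1935 = W * psi 218 * W⁻¹ := by
      rw [← link_eq hi, link_inv hi, hW, mul_inv_rev, inv_eq_of_mul_eq_one_right gT_sq]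
      simp only [mul_assoc]
    have hb := congrArg β1 hl
    rw [map_mul, h1x, h1psi, map_mul, map_mul, map_inv, h1psi] at hb
    apply not_conj ((rho (psi u * β1 W))⁻¹)
    have e : psi u * β1 W * psi 218 * (psi u * β1 W)⁻¹ = gX := by
      rw [mul_inv_rev, psi_inv hi u]
      calc psi u * β1 W * psi 218 * ((β1 W)⁻¹ * psi u)
          = psi u * (β1 W * psi 218 * (β1 W)⁻¹) * psi u := by group
        _ = gX := by rw [← hb, hux]
    generalize psi u * β1 W = Z at e ⊢
    rw [← rho_gX, ← e, map_mul, map_mul, map_inv]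
    group

theorem card_out : Nat.card (Cfsg.Out Cfsg.Spor.J4) = 1 := by
  have hall : ∀ α : MulAut G4, α ∈ Cfsg.Inn G4 := by
    intro α
    obtain ⟨g, hE, hM⟩ := exists_adjusted hcard hsimple hmax α
    obtain ⟨f, hf⟩ := inner_of_adjusted hcard hsimple hmax (MulAut.conj g * α) hE hM
    refine ⟨(f * g)⁻¹, MulEquiv.ext fun x => ?_⟩
    have h : f * (g * α x * g⁻¹) * f⁻¹ = x := hf x
    rw [MulAut.conj_apply]
    nth_rewrite 1 [← h]
    group
  rw [Nat.card_eq_one_iff_unique]
  refine ⟨⟨fun a b => ?_⟩, ⟨1⟩⟩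
  induction a using QuotientGroup.induction_on with
  | _ a => induction b using QuotientGroup.induction_on with
    | _ b => exact QuotientGroup.eq.2 (hall _)

end

end H5.J4Out
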