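import Cfsg.Agent.H96.J4Simple.Cover
import Cfsg.Agent.H5.J4Out.Main

/-!
The outer automorphism group of the presented fourth Janko group from a cover of its cosets by seven
orbits of the subgroup generated by x, y and s.
-/

set_option autoImplicit false
set_option maxRecDepth 100000

namespace H5.J4Out

open H54.J4 H54.J4.Lower H96.J4Simple

variable {N : Type*} [Group N] [Finite N] (ι : N →* G4) (hι : ι.range = jN)
  (hN : Nat.card N ≤ 2048 * 244823040) (q : Fin 7 → G4 ⧸ ι.range) (St : Fin 7 → Subgroup N)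
  (hfix : ∀ i, ∀ g ∈ St i, ι g • q i = q i) (hidx : ∀ i, (St i).index ≤ dsize i)
  (hcov : ∀ c, ∃ i, ∃ n : N, ι n • q i = c)

include hι hN hfix hidx hcov

/-- the subgroup generated by x, y and s is maximal -/
theorem maximal_of_cover (H : Subgroup G4) (hH : jN ≤ H) : H = jN ∨ H = ⊤ := by
  have hJ := isJ4_of_cover ι hι hN q St hfix hidx hcov
  obtain ⟨q', hq'⟩ : ∃ q' : Fin 7 → G4 ⧸ jN,
      (∀ c, ∃ i, c ∈ MulAction.orbit jN (q' i)) ∧
        ∀ i, Nat.card (MulAction.orbit jN (q' i)) ≤ dsize i := by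
    rw [← hι]
    refine ⟨q, fun c => ?_, orbit_bound ι q St hfix hidx⟩
    obtain ⟨i, n, rfl⟩ := hcov c
    exact ⟨i, ⟨ι n, n, rfl⟩, rfl⟩
  exact eq_or_eq_top hJ.2 q' hq'.1 hq'.2 H hH

/-- the outer automorphism group is trivial -/
theorem card_out_of_cover : Nat.card (Cfsg.Out Cfsg.Spor.J4) = 1 :=
  card_out (isJ4_of_cover ι hι hN q St hfix hidx hcov).2 (isJ4_of_cover ι hι hN q St hfix hidx hcov).1
    (maximal_of_cover ι hι hN q St hfix hidx hcov)

end H5.J4Out
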