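import Cfsg.Agent.H5.J4Out.Action
import Cfsg.Agent.H5.J4Out.BitsExt
import Cfsg.Agent.H5.J4Out.BitsSize
import Cfsg.Agent.H5.J4Out.BitsNodup

/-!
In a Sylow 2-subgroup of the presented fourth Janko group the elementary abelian normal subgroup of
order 2^11 is unique, hence every automorphism carries the subgroup of order 2^11 to a conjugate.
-/

set_option autoImplicit false
set_option maxRecDepth 100000

namespace H5.J4Out

open H54.J4 H54.J4.Lower H96.J4Simple

theorem el_lt {i : ℕ} (h : i < 1024) : el i < 2 ^ 121 := by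
  have := List.all_eq_true.1 el_small i (List.mem_range.2 h)
  simpa [Nat.blt_eq] using this

theorem eq_of_rows {A B : ℕ} (hA : A < 2 ^ 121) (hB : B < 2 ^ 121)
    (h : ∀ i, i < 11 → rowM A i = rowM B i) : A = B := by
  refine Nat.eq_of_testBit_eq fun n => ?_
  by_cases hn : n < 121
  · obtain ⟨q, r, hr, rfl⟩ : ∃ q r, r < 11 ∧ n = 11 * q + r :=
      ⟨n / 11, n % 11, Nat.mod_lt _ (by norm_num), (Nat.div_add_mod n 11).symm⟩
    rw [← rowM_bit _ _ _ hr, ← rowM_bit _ _ _ hr, h q (by omega)]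
  · have hb : ∀ z, z < 2 ^ 121 → z.testBit n = false := fun z hz => Nat.testBit_lt_two_pow
      (lt_of_lt_of_le hz (Nat.pow_le_pow_right (n := 2) (by norm_num) (show 121 ≤ n by omega)))
    rw [hb A hA, hb B hB]

theorem el_inj {i j : ℕ} (hi' : i < 1024) (hj' : j < 1024) (h : sameM (el i) (el j) = true) :
    i = j := by
  simp only [sameM, List.all_eq_true, List.mem_range] at h
  exact el_injective hi' hj' (eq_of_rows (el_lt hi') (el_lt hj') fun r hr =>
    Nat.eq_of_beq_eq_true (h r hr))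

variable (hi : Function.Injective rho)

include hi

theorem Acts.congr {g : G4} {A B : ℕ} (hg : Acts g A) (h : sameM A B = true) : Acts g B := by
  intro r hr
  simp only [sameM, List.all_eq_true, List.mem_range] at h
  rw [hg r hr, Nat.eq_of_beq_eq_true (h r hr)]

theorem acts_index {g : G4} {i j : ℕ} (hi' : i < 1024) (hj' : j < 1024) (h1 : Acts g (el i))
    (h2 : Acts g (el j)) : i = j := el_inj hi' hj' (h1.unique hi h2)

theorem acts_el_zero : Acts 1 (el 0) := by
  rw [Nat.eq_of_beq_eq_true el_zero]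
  exact acts_one

/-- the listed generators -/
noncomputable def genG (k : ℕ) : G4 := wxy (Data.genW.getD k [])

omit hi in
theorem genW_ok : ∀ k < 5, ∀ g ∈ Data.genW.getD k [], g < 3 := by decide +kernel

omit hi in
theorem genG_mem (k : ℕ) : genG k ∈ jN :=
  H96.J4Simple.toJ_range_le ⟨_, wxy_toJ _⟩

theorem acts_gen {k : ℕ} (hk : k < 5) : Acts (genG k) (genM k) := by
  intro r hr
  rw [← psi_pow hr, genG, word_apply hi _ (genW_ok k hk)]
  have h := List.all_eq_true.1 (List.all_eq_true.1 gen_check k (List.mem_range.2 hk)) r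
    (List.mem_range.2 hr)
  rw [Nat.eq_of_beq_eq_true h]

theorem mul_ok {i k : ℕ} (hi' : i < 1024) (hk : k < 5) {g : G4} (hg : Acts g (el i)) :
    mulG i k < 1024 ∧ Acts (g * genG k) (el (mulG i k)) := by
  have h := List.all_eq_true.1 (List.all_eq_true.1 mul_check i (List.mem_range.2 hi')) k
    (List.mem_range.2 hk)
  rw [Bool.and_eq_true, Nat.blt_eq] at h
  exact ⟨h.1, hg.mul hi (acts_gen hi hk) h.2⟩

theorem exists_elem : ∀ i, i < 1024 → ∃ g ∈ jN, Acts g (el i) := by
  intro i
  induction i using Nat.strong_induction_on with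
  | _ i ih =>
    intro hi'
    rcases Nat.eq_zero_or_pos i with rfl | hpos
    · exact ⟨1, one_mem _, acts_el_zero hi⟩
    have h := List.all_eq_true.1 pred_check i (List.mem_range.2 hi')
    simp only [Bool.or_eq_true, Bool.and_eq_true, Nat.beq_eq, Nat.blt_eq] at h
    rcases h with h | ⟨⟨h1, h2⟩, h3⟩
    · omega
    obtain ⟨g, hg, hga⟩ := ih _ h1 (by omega)
    have h4 := (mul_ok hi (show (predI i).1 < 1024 by omega) h2 hga).2
    rw [h3] at h4
    exact ⟨g * genG (predI i).2, mul_mem hg (genG_mem _), h4⟩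

theorem acts_mul {j : ℕ} (hj' : j < 1024) : ∀ i, i < 1024 → ∃ l < 1024, ∀ g h, Acts g (el i) →
    Acts h (el j) → Acts (g * h) (el l) := by
  induction j using Nat.strong_induction_on with
  | _ j ih =>
    intro i hi'
    rcases Nat.eq_zero_or_pos j with rfl | hpos
    · refine ⟨i, hi', fun g h hg hh r hr => ?_⟩
      calc (g * h)⁻¹ * eg r * (g * h) = h⁻¹ * (g⁻¹ * eg r * g) * h := by group
        _ = psi (rowM (el i) r) := by
          rw [hg r hr, hh.apply hi, ← (acts_el_zero hi).apply hi]; group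
    have hp := List.all_eq_true.1 pred_check j (List.mem_range.2 hj')
    simp only [Bool.or_eq_true, Bool.and_eq_true, Nat.beq_eq, Nat.blt_eq] at hp
    rcases hp with hp | ⟨⟨h1, h2⟩, h3⟩
    · omega
    obtain ⟨l, hl, hmul⟩ := ih _ h1 (by omega) i hi'
    obtain ⟨g0, -, hg0⟩ := exists_elem hi i hi'
    obtain ⟨p, -, hpa⟩ := exists_elem hi (predI j).1 (by omega)
    refine ⟨mulG l (predI j).2, (mul_ok hi hl h2 (hmul g0 p hg0 hpa)).1, fun g h hg hh r hr => ?_⟩
    have e := (mul_ok hi hl h2 (hmul g p hg hpa)).2 r hr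
    have hj2 : Acts (p * genG (predI j).2) (el j) := by
      have h4 := (mul_ok hi (show (predI j).1 < 1024 by omega) h2 hpa).2
      rwa [h3] at h4
    calc (g * h)⁻¹ * eg r * (g * h) = h⁻¹ * (g⁻¹ * eg r * g) * h := by group
      _ = psi (actV (rowM (el i) r) (el j)) := by rw [hg r hr, hh.apply hi]
      _ = _ := by
        rw [← hj2.apply hi, ← hg r hr, ← e]; group

theorem acts_pow {i : ℕ} (hi' : i < 1024) {g : G4} (hg : Acts g (el i)) :
    ∀ n : ℕ, ∃ l < 1024, Acts (g ^ n) (el l)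
  | 0 => ⟨0, by norm_num, by rw [pow_zero]; exact acts_el_zero hi⟩
  | n + 1 => by
    obtain ⟨j, hj, hja⟩ := acts_pow hi' hg n
    obtain ⟨l, hl, h⟩ := acts_mul hi hi' j hj
    exact ⟨l, hl, by rw [pow_succ]; exact h _ g hja hg⟩

theorem acts_inv {i : ℕ} (hi' : i < 1024) {g : G4} (hg : Acts g (el i)) :
    ∃ l < 1024, Acts g⁻¹ (el l) := by
  have : Finite G4 := Finite.of_injective _ hi
  have h1 : g⁻¹ = g ^ (orderOf g - 1) := inv_eq_of_mul_eq_one_right (by
    rw [← pow_succ', Nat.sub_add_cancel (orderOf_pos g), pow_orderOf_eq_one])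
  rw [h1]
  exact acts_pow hi hi' hg _

/-- the subgroup of order 2^21 -/
noncomputable def sSub : Subgroup G4 where
  carrier := {g | g ∈ jN ∧ ∃ i, i < 1024 ∧ Acts g (el i)}
  one_mem' := ⟨one_mem _, 0, by norm_num, acts_el_zero hi⟩
  mul_mem' := by
    rintro a b ⟨ha, i, hi', hia⟩ ⟨hb, j, hj', hjb⟩
    obtain ⟨l, hl, h⟩ := acts_mul hi hj' i hi'
    exact ⟨mul_mem ha hb, l, hl, h a b hia hjb⟩
  inv_mem' := by
    rintro a ⟨ha, i, hi', hia⟩
    obtain ⟨l, hl, h⟩ := acts_inv hi hi' hia
    exact ⟨inv_mem ha, l, hl, h⟩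

theorem eSub_le_sSub : eSub hi ≤ sSub hi := by
  rintro _ ⟨v, hv, rfl⟩
  refine ⟨eSub_le hi (psi_mem_eSub hi hv), 0, by norm_num, fun r hr => ?_⟩
  rw [psi_inv hi, ← psi_pow hr, psi_comm hi, mul_assoc, psi_sq hi, mul_one, psi_pow hr,
    ← acts_el_zero hi r hr, inv_one, one_mul, mul_one]

theorem card_sSub : Nat.card (sSub hi) = 2097152 := by
  choose rep hrep hact using exists_elem hi
  let f : Fin 2048 × Fin 1024 → sSub hi := fun p =>
    ⟨psi p.1 * rep p.2 p.2.isLt,
      mul_mem (eSub_le_sSub hi (psi_mem_eSub hi p.1.isLt)) ⟨hrep _ _, p.2, p.2.isLt, hact _ _⟩⟩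
  have hmulE : ∀ v i (hv : v < 2048) (hi' : i < 1024), Acts (psi v * rep i hi') (el i) := by
    intro v i hv hi' r hr
    rw [← hact i hi' r hr, mul_inv_rev, psi_inv hi, ← psi_pow hr]
    calc (rep i hi')⁻¹ * psi v * psi (2 ^ r) * (psi v * rep i hi')
        = (rep i hi')⁻¹ * (psi v * psi (2 ^ r) * psi v) * rep i hi' := by group
      _ = _ := by rw [psi_comm hi v, mul_assoc (psi (2 ^ r)), psi_sq hi, mul_one]
  rw [← Nat.card_eq_of_bijective f ⟨?_, ?_⟩, Nat.card_prod, Nat.card_fin, Nat.card_fin]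
  · rintro ⟨v, i⟩ ⟨w, j⟩ h
    have e : psi v * rep i i.isLt = psi w * rep j j.isLt := congrArg Subtype.val h
    have hij : i = j := Fin.ext (acts_index hi i.isLt j.isLt (hmulE v i v.isLt i.isLt)
      (e ▸ hmulE w j w.isLt j.isLt))
    subst hij
    rw [Fin.ext (psi_inj hi v.isLt w.isLt (mul_right_cancel e))]
  · rintro ⟨g, hg, i, hi', hgi⟩
    have h0 : g * (rep i hi')⁻¹ ∈ eSub hi := by
      refine acts_central hi (mul_mem hg (inv_mem (hrep i hi'))) fun r hr => ?_
      rw [oneM_row r hr, psi_pow hr]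
      obtain ⟨v, hv, e⟩ : ∃ v, v < 2048 ∧ g⁻¹ * eg r * g = psi v := ⟨_, rowM_lt _ _, hgi r hr⟩
      calc (g * (rep i hi')⁻¹)⁻¹ * eg r * (g * (rep i hi')⁻¹)
          = rep i hi' * (g⁻¹ * eg r * g) * (rep i hi')⁻¹ := by group
        _ = rep i hi' * ((rep i hi')⁻¹ * eg r * rep i hi') * (rep i hi')⁻¹ := by
          rw [hgi r hr, hact i hi' r hr]
        _ = eg r := by group
    obtain ⟨v, hv, e⟩ := h0
    exact ⟨(⟨v, hv⟩, ⟨i, hi'⟩), Subtype.ext (by
      show psi v * rep i hi' = g
      rw [← e, inv_mul_cancel_right])⟩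

theorem normal_elem_unique (A : Subgroup G4) (hA : A ≤ sSub hi) (hcard : Nat.card A = 2048)
    (hn : ∀ g ∈ sSub hi, ∀ a ∈ A, g⁻¹ * a * g ∈ A) (hc : ∀ a ∈ A, ∀ b ∈ A, a * b = b * a)
    (hsq : ∀ a ∈ A, a * a = 1) : A = eSub hi := by
  classical
  have hAfin : Finite A := Nat.finite_of_card_ne_zero (by rw [hcard]; norm_num)
  let P : ℕ → Prop := fun i => i < 1024 ∧ ∃ a ∈ A, Acts a (el i)
  have h0 : P 0 := ⟨by norm_num, 1, one_mem _, acts_el_zero hi⟩
  have hmem : ∀ i, P i → sqI i = 0 := by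
    rintro i ⟨hi', a, ha, hai⟩
    have h := List.all_eq_true.1 sq_check i (List.mem_range.2 hi')
    rw [Bool.and_eq_true, Nat.blt_eq] at h
    exact acts_index hi h.1 (by norm_num) (hsq a ha ▸ hai.mul hi hai h.2) (acts_el_zero hi)
  have hcomm : ∀ i j, P i → P j → commM (el i) (el j) = true := by
    rintro i j ⟨-, a, ha, hai⟩ ⟨-, b, hb, hbj⟩
    have hlt : ∀ A B : ℕ, mulM A B < 2 ^ 121 := fun A B =>
      H26.BitCode.mulW_lt (by norm_num) onesM_eq A B
    have e : mulM (el i) (el j) = mulM (el j) (el i) := eq_of_rows (hlt _ _) (hlt _ _) fun r hr => by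
      rw [rowM_mulM _ _ hr, rowM_mulM _ _ hr]
      refine psi_inj hi (actV_lt _ _) (actV_lt _ _) ?_
      rw [← hbj.apply hi, ← hai.apply hi, ← hai r hr, ← hbj r hr]
      calc b⁻¹ * (a⁻¹ * eg r * a) * b = (a * b)⁻¹ * eg r * (a * b) := by group
        _ = (b * a)⁻¹ * eg r * (b * a) := by rw [hc a ha b hb]
        _ = a⁻¹ * (b⁻¹ * eg r * b) * a := by group
    simp [commM, e]
  have hconj : ∀ i k, P i → k < 5 → P (commG i k) := by
    rintro i k ⟨hi', a, ha, hai⟩ hk
    have hgS : genG k ∈ sSub hi :=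
      ⟨genG_mem k, by simpa using (⟨_, mul_ok hi (show (0:ℕ) < 1024 by norm_num) hk
        (acts_el_zero hi)⟩ : ∃ j, j < 1024 ∧ Acts (1 * genG k) (el j))⟩
    have hb := hn _ hgS a ha
    have hcj := List.all_eq_true.1 (List.all_eq_true.1 conj_check i (List.mem_range.2 hi')) k
      (List.mem_range.2 hk)
    rw [Bool.and_eq_true, Nat.blt_eq] at hcj
    have hinv := List.all_eq_true.1 inv_check k (List.mem_range.2 hk)
    rw [Bool.and_eq_true, Nat.blt_eq] at hinv
    have hbc : Acts ((genG k)⁻¹ * a * genG k) (el (conjG i k)) := by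
      intro r hr
      rw [← mulIs_row hcj.2 r hr, rowM_mulM _ _ hr, ← (acts_gen hi hk).apply hi, ← hai.apply hi]
      have e : eg r = (genG k)⁻¹ * psi (rowM (el (Data.genI.getD k 0)) r) * genG k := by
        rw [(acts_gen hi hk).apply hi, mulIs_row hinv.2 r hr, oneM_row r hr,
          psi_pow hr]
      rw [e]; group
    have hcm := List.all_eq_true.1 (List.all_eq_true.1 comm_check i (List.mem_range.2 hi')) k
      (List.mem_range.2 hk)
    rw [Bool.and_eq_true, Nat.blt_eq] at hcm
    exact ⟨hcm.1, _, mul_mem ha hb, hai.mul hi hbc hcm.2⟩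
  -- the largest node inside
  have hshape := node_shape.1
  simp only [List.all_eq_true, Bool.and_eq_true, decide_eq_true_eq, Nat.blt_eq] at hshape
  let C : Finset (List ℕ) := Data.nodeL.toFinset.filter fun K => ∀ b ∈ K, P b
  have hC : [0] ∈ C := by
    refine Finset.mem_filter.2 ⟨List.mem_toFinset.2 ?_, fun b hb => by
      rw [List.mem_singleton] at hb; subst hb; exact h0⟩
    simpa using node_shape.2
  obtain ⟨K, hK, hmax⟩ := C.exists_max_image List.length ⟨_, hC⟩
  obtain ⟨hKn, hKP⟩ := Finset.mem_filter.1 hK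
  rw [List.mem_toFinset] at hKn
  have hall : ∀ i, P i → i ∈ K := by
    by_contra hne
    push Not at hne
    obtain ⟨i0, hi0, hi0K⟩ := hne
    let R : Finset ℕ := (Finset.range 1024).filter fun i => P i ∧ i ∉ K
    obtain ⟨y, hy, hymax⟩ := R.exists_max_image levI
      ⟨i0, Finset.mem_filter.2 ⟨Finset.mem_range.2 hi0.1, hi0, hi0K⟩⟩
    obtain ⟨-, hyP, hyK⟩ := Finset.mem_filter.1 hy
    have h0K : 0 ∈ K := by simpa using (hshape K hKn).2
    have hy0 : y ≠ 0 := fun h => hyK (h ▸ h0K)
    have hd : ∀ k < 5, commG y k ∈ K := by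
      intro k hk
      by_contra hnot
      have hP := hconj y k hyP hk
      have h1 := hymax _ (Finset.mem_filter.2 ⟨Finset.mem_range.2 hP.1, hP, hnot⟩)
      have h2 := List.all_eq_true.1 lev_check y (List.mem_range.2 hyP.1)
      simp only [Bool.or_eq_true, Bool.not_eq_true', List.all_eq_true, List.mem_range,
        Nat.beq_eq, Nat.blt_eq] at h2
      rcases h2 with (h2 | h2) | h2
      · exact hy0 h2
      · rw [hmem y hyP] at h2; exact absurd h2 (by decide)
      · have := h2 k hk; omega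
    have hx := List.all_eq_true.1 (List.all_eq_true.1 ext_check K hKn) y (List.mem_range.2 hyP.1)
    simp only [extOK, Bool.or_eq_true, Bool.not_eq_true', List.any_eq_true, List.mem_range,
      List.contains_iff_mem, Bool.and_eq_true, List.all_eq_true, Nat.blt_eq] at hx
    rcases hx with (((hx | hx) | ⟨k, hk, hx⟩) | ⟨a, ha, hx⟩) | ⟨K', hK', hlen, hsub⟩
    · rw [hmem y hyP] at hx; exact absurd hx (by decide)
    · exact hyK hx
    · exact (by simpa using hx : commG y k ∉ K) (hd k hk)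
    · rw [hcomm a y (hKP a ha) hyP] at hx; exact absurd hx (by decide)
    · have hle := hmax K' (Finset.mem_filter.2 ⟨List.mem_toFinset.2 hK', fun b hb => ?_⟩)
      · omega
      rcases hsub b hb with hb' | ⟨a, ha, hab⟩
      · exact hKP b hb'
      · obtain ⟨-, u, hu, hua⟩ := hKP a ha
        obtain ⟨-, w, hw, hwy⟩ := hyP
        exact ⟨((hshape K' hK').1.2 b hb), u * w, mul_mem hu hw, hua.mul hi hwy hab⟩
  have hidx : ∀ a : A, ∃ i, P i ∧ Acts (a : G4) (el i) := fun a => by
    obtain ⟨-, i, hi', hai⟩ := hA a.2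
    exact ⟨i, ⟨hi', a, a.2, hai⟩, hai⟩
  choose ix hix hixa using hidx
  obtain ⟨j, hj, hKj⟩ := List.getElem_of_mem hKn
  have hsz : Nat.beq K.length 1 = true ∨ ((∀ b ∈ Data.witL[j]'(by rw [wit_length]; exact hj), b ∈ K) ∧
      K.length * numFix (Data.witL[j]'(by rw [wit_length]; exact hj)) < 2048) := by
    have h := List.all_eq_true.1 node_size (K, Data.witL[j]'(by rw [wit_length]; exact hj)) (by
      rw [List.mem_iff_getElem]
      exact ⟨j, by rw [List.length_zip, wit_length, min_self]; exact hj, by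
        rw [List.getElem_zip, hKj]⟩)
    simpa [List.all_eq_true, Nat.blt_eq] using h
  rcases hsz with h1 | ⟨hwK, hlt⟩
  · have hK1 : ∀ a : A, (a : G4) ∈ eSub hi := fun a => by
      obtain ⟨-, hKz⟩ := hshape K hKn
      have h0K : 0 ∈ K := by simpa using hKz
      have hz : ix a = 0 := by
        obtain ⟨z, hz⟩ := List.length_eq_one_iff.1 (Nat.eq_of_beq_eq_true h1)
        have e1 := hall _ (hix a)
        rw [hz, List.mem_singleton] at e1 h0K
        omega
      refine acts_central hi (hA a.2).1 ?_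
      rw [← Nat.eq_of_beq_eq_true el_zero]
      exact hz ▸ hixa a
    have hle : A ≤ eSub hi := fun a ha => hK1 ⟨a, ha⟩
    have : Finite (eSub hi) := Nat.finite_of_card_ne_zero (by rw [card_eSub hi]; norm_num)
    exact Subgroup.eq_of_le_of_card_ge hle (by rw [hcard, card_eSub hi])
  · exfalso
    generalize hW : Data.witL[j]'(by rw [wit_length]; exact hj) = W at hwK hlt
    let F := (List.range 2048).filter fun v => W.all fun b => Nat.beq (actV v (el b)) v
    have hrep : ∀ i, P i → ∃ a ∈ A, Acts a (el i) := fun i h => h.2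
    choose ra hra hraa using hrep
    have hv : ∀ a : A, ∃ v ∈ F, (ra _ (hix a))⁻¹ * (a : G4) = psi v := by
      intro a
      set u := ra _ (hix a) with hu
      have huA := hra _ (hix a)
      have hmemA : u⁻¹ * (a : G4) ∈ A := mul_mem (inv_mem huA) a.2
      have he : u⁻¹ * (a : G4) ∈ eSub hi := by
        refine acts_central hi (hA hmemA).1 fun r hr => ?_
        rw [oneM_row r hr, psi_pow hr]
        have hu2 : u⁻¹ = u := inv_eq_of_mul_eq_one_right (hsq _ huA)
        rw [hu2, hc u huA a a.2]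
        calc ((a : G4) * u)⁻¹ * eg r * ((a : G4) * u)
            = u⁻¹ * ((a : G4)⁻¹ * eg r * a) * u := by group
          _ = u⁻¹ * (u⁻¹ * eg r * u) * u := by rw [hixa a r hr, hraa _ (hix a) r hr]
          _ = eg r := by rw [hu2]; calc u * (u * eg r * u) * u = (u * u) * eg r * (u * u) := by group
                           _ = eg r := by rw [hsq _ huA, one_mul, mul_one]
      obtain ⟨v, hv, e⟩ := he
      refine ⟨v, List.mem_filter.2 ⟨List.mem_range.2 hv, List.all_eq_true.2 fun b hb => ?_⟩, e⟩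
      obtain ⟨-, w, hw, hwb⟩ := hKP b (hwK b hb)
      have h1 := hwb.apply hi v
      rw [← e, mul_assoc, hc _ hmemA w hw, ← mul_assoc, inv_mul_cancel, one_mul, e] at h1
      rw [← psi_inj hi hv (actV_lt _ _) h1]
      exact Nat.beq_refl _
    choose vx hvx hvxe using hv
    let f : A → {i // i ∈ K.toFinset} × {v // v ∈ F.toFinset} := fun a =>
      (⟨ix a, List.mem_toFinset.2 (hall _ (hix a))⟩, ⟨vx a, List.mem_toFinset.2 (hvx a)⟩)
    have hf : Function.Injective f := by
      intro a b hab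
      have e1 : ix a = ix b := congrArg (fun p => (p.1 : ℕ)) hab
      have e2 : vx a = vx b := congrArg (fun p => (p.2 : ℕ)) hab
      have ea := hvxe a
      have eb := hvxe b
      rw [inv_mul_eq_iff_eq_mul] at ea eb
      have hr : ra _ (hix a) = ra _ (hix b) := by simp only [e1]
      exact Subtype.ext (by rw [ea, eb, e2, hr])
    have h := Nat.card_le_card_of_injective f hf
    rw [hcard, Nat.card_prod, Nat.card_eq_finsetCard, Nat.card_eq_finsetCard] at h
    have hb : K.toFinset.card * F.toFinset.card ≤ K.length * numFix W :=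
      Nat.mul_le_mul (List.toFinset_card_le K) (List.toFinset_card_le F)
    omega

omit hi in
theorem two_factor : (86775571046077562880 : ℕ) = 2 ^ 21 * 41377816699065 := by norm_num

end H5.J4Out
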